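import Cfsg.Agent.PGV.Basic
import Cfsg.Agent.S0606

/-!
# Replacement by a quadratic best offender

For an abelian best offender `A` the subgroup fixing all displacements of `A` is again one.
-/

set_option autoImplicit false
set_option linter.unusedSectionVars false
set_option maxHeartbeats 400000

namespace Cfsg.Agent.PGV

open Subgroup

variable {Γ : Type*} [Group Γ] [Finite Γ] {V : Type*} [AddCommGroup V] [Finite V]
  [DistribMulAction Γ V]

/-- The pointwise stabiliser of an additive subgroup. -/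
def fixer (Γ : Type*) [Group Γ] [DistribMulAction Γ V] (X : AddSubgroup V) : Subgroup Γ :=
  ⨅ x ∈ X, MulAction.stabilizer Γ x

theorem mem_fixer {X : AddSubgroup V} {g : Γ} : g ∈ fixer Γ X ↔ ∀ x ∈ X, g • x = x := by
  simp [fixer, Subgroup.mem_iInf, MulAction.mem_stabilizer_iff]

theorem addCard_sup_mul_inf (X Y : AddSubgroup V) :
    Nat.card (X ⊔ Y : AddSubgroup V) * Nat.card (X ⊓ Y : AddSubgroup V) =
      Nat.card X * Nat.card Y := by
  have h1 := AddSubgroup.card_mul_index (X.addSubgroupOf (X ⊔ Y))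
  rw [Nat.card_congr (AddSubgroup.addSubgroupOfEquivOfLe (show X ≤ X ⊔ Y from le_sup_left)).toEquiv]
    at h1
  have h2 := AddSubgroup.card_mul_index (X.addSubgroupOf Y)
  rw [← AddSubgroup.inf_addSubgroupOf_right,
    Nat.card_congr (AddSubgroup.addSubgroupOfEquivOfLe (show X ⊓ Y ≤ Y from inf_le_right)).toEquiv,
    AddSubgroup.inf_addSubgroupOf_right] at h2
  have h3 : (X.addSubgroupOf (X ⊔ Y)).index = (X.addSubgroupOf Y).index := by
    show X.relIndex (X ⊔ Y) = X.relIndex Y
    rw [sup_comm, AddSubgroup.relIndex_sup_right]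
  rw [← h1, ← h2, h3]
  ring

/-- The displacements of a set of vectors, with the fixed points of `A`. -/
def disp (A : Subgroup Γ) (S : Set V) : AddSubgroup V :=
  fix V A ⊔ AddSubgroup.closure {x | ∃ c ∈ A, ∃ v ∈ S, x = c • v - v}

/-- `X` is the fixed point group of a subgroup of `A` attaining the bound. -/
def Attains (A : Subgroup Γ) (X : AddSubgroup V) : Prop :=
  fix V (A ⊓ fixer Γ X) = X ∧
    Nat.card (A ⊓ fixer Γ X : Subgroup Γ) * Nat.card X = Nat.card A * Nat.card (fix V A)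

variable {A : Subgroup Γ}

theorem le_fix_fixer (X : AddSubgroup V) : X ≤ fix V (A ⊓ fixer Γ X) :=
  fun _ hx _ hg => mem_fixer.mp hg.2 _ hx

theorem fixer_sup (X Y : AddSubgroup V) :
    fixer Γ (X ⊔ Y) = (fixer Γ X ⊓ fixer Γ Y : Subgroup Γ) := by
  ext g
  simp only [mem_fixer, Subgroup.mem_inf]
  refine ⟨fun h => ⟨fun x hx => h x (AddSubgroup.mem_sup_left hx),
    fun x hx => h x (AddSubgroup.mem_sup_right hx)⟩, fun h x hx => ?_⟩
  obtain ⟨y, hy, z, hz, rfl⟩ := AddSubgroup.mem_sup.mp hx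
  rw [smul_add, h.1 y hy, h.2 z hz]

theorem attains_sup (hab : ∀ a ∈ A, ∀ b ∈ A, Commute a b) (hB : Best V A) {X Y : AddSubgroup V}
    (hX : Attains A X) (hY : Attains A Y) : Attains A (X ⊔ Y) := by
  set D := A ⊓ fixer Γ X with hD
  set E := A ⊓ fixer Γ Y with hE
  have hinf : A ⊓ fixer Γ (X ⊔ Y) = D ⊓ E := by
    rw [fixer_sup, hD, hE, ← inf_inf_distrib_left]
  have e1 : Nat.card (D ⊔ E : Subgroup Γ) * Nat.card (D ⊓ E : Subgroup Γ) =
      Nat.card D * Nat.card E :=
    Cfsg.Agent.S0606.card_sup_mul_card_inf_of_le_normalizer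
      (le_trans (fun x hx => mem_centralizer_iff.mpr fun y hy => (hab y hy.1 x hx.1).eq)
        (centralizer_le_normalizer _))
  have e2 := addCard_sup_mul_inf X Y
  have hfs : fix V (D ⊔ E) = X ⊓ Y := by rw [fix_sup, hX.1, hY.1]
  have b2 := hB (D ⊔ E) (sup_le inf_le_left inf_le_left)
  rw [hfs] at b2
  have hle : X ⊔ Y ≤ fix V (D ⊓ E) := hinf ▸ le_fix_fixer (X ⊔ Y)
  have b3 : Nat.card (X ⊔ Y : AddSubgroup V) ≤ Nat.card (fix V (D ⊓ E)) :=
    AddSubgroup.card_le_of_le hle
  have b1 := hB (D ⊓ E) (inf_le_left.trans inf_le_left)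
  set F := Nat.card A * Nat.card (fix V A) with hF
  have hFpos : 0 < F := Nat.mul_pos Nat.card_pos Nat.card_pos
  have prod : Nat.card (D ⊓ E : Subgroup Γ) * Nat.card (X ⊔ Y : AddSubgroup V) *
      (Nat.card (D ⊔ E : Subgroup Γ) * Nat.card (X ⊓ Y : AddSubgroup V)) = F * F := by
    calc _ = (Nat.card (D ⊔ E : Subgroup Γ) * Nat.card (D ⊓ E : Subgroup Γ)) *
          (Nat.card (X ⊔ Y : AddSubgroup V) * Nat.card (X ⊓ Y : AddSubgroup V)) := by ring
      _ = (Nat.card D * Nat.card X) * (Nat.card E * Nat.card Y) := by rw [e1, e2]; ring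
      _ = F * F := by rw [hX.2, hY.2]
  have hge : F ≤ Nat.card (D ⊓ E : Subgroup Γ) * Nat.card (X ⊔ Y : AddSubgroup V) := by
    by_contra hlt
    push Not at hlt
    exact absurd prod (ne_of_lt (Nat.mul_lt_mul_of_lt_of_le hlt b2 hFpos))
  have heq := le_antisymm ((Nat.mul_le_mul_left _ b3).trans b1) hge
  refine ⟨(AddSubgroup.eq_of_le_of_card_ge (hinf ▸ hle) ?_).symm, by rw [hinf]; exact heq⟩
  rw [hinf]
  exact Nat.le_of_mul_le_mul_left (heq.symm ▸ b1) Nat.card_pos

theorem disp_insert (v : V) (S : Set V) : disp A (insert v S) = disp A {v} ⊔ disp A S := by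
  rw [disp, disp, disp, ← sup_sup_distrib_left, ← AddSubgroup.closure_union]
  congr 2
  ext x
  constructor
  · rintro ⟨c, hc, u, hu | hu, rfl⟩
    · exact Or.inl ⟨c, hc, v, rfl, by rw [hu]⟩
    · exact Or.inr ⟨c, hc, u, hu, rfl⟩
  · rintro (⟨c, hc, u, hu, rfl⟩ | ⟨c, hc, u, hu, rfl⟩)
    · exact ⟨c, hc, u, Or.inl hu, rfl⟩
    · exact ⟨c, hc, u, Or.inr hu, rfl⟩

theorem attains_empty : Attains A (disp A (∅ : Set V)) := by
  have hd : disp A (∅ : Set V) = fix V A := by simp [disp]
  have hA : A ⊓ fixer Γ (fix V A) = A :=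
    inf_eq_left.mpr fun g hg => mem_fixer.mpr fun x hx => hx g hg
  rw [hd]
  exact ⟨by rw [hA], by rw [hA]⟩

theorem attains_single (hab : ∀ a ∈ A, ∀ b ∈ A, Commute a b) (hB : Best V A) (v : V) :
    Attains A (disp A {v}) := by
  classical
  set X := disp A {v} with hX
  set D := A ⊓ fixer Γ X with hD
  have hmem : ∀ a ∈ A, a • v - v ∈ X := fun a ha =>
    AddSubgroup.mem_sup_right (AddSubgroup.subset_closure ⟨a, ha, v, rfl, rfl⟩)
  let ψ : ↥A ⧸ D.subgroupOf A → ↥X ⧸ (fix V A).addSubgroupOf X := fun q =>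
    QuotientAddGroup.mk ⟨(q.out : Γ) • v - v, hmem _ q.out.2⟩
  have hψ : Function.Injective ψ := by
    intro q r hqr
    rw [QuotientAddGroup.eq, AddSubgroup.mem_addSubgroupOf] at hqr
    rw [← QuotientGroup.out_eq' q, ← QuotientGroup.out_eq' r, QuotientGroup.eq,
      Subgroup.mem_subgroupOf]
    generalize q.out = a at hqr ⊢
    generalize r.out = b at hqr ⊢
    have hw : -((a : Γ) • v - v) + ((b : Γ) • v - v) ∈ fix V A := hqr
    refine ⟨(a⁻¹ * b).2, mem_fixer.mpr ?_⟩
    have hx : (((a⁻¹ * b : ↥A)) : Γ) • v - v ∈ fix V A := by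
      intro g hg
      have h := hw g hg
      have e : -((a : Γ) • v - v) + ((b : Γ) • v - v) =
          (a : Γ) • ((((a⁻¹ * b : ↥A)) : Γ) • v - v) := by
        push_cast
        rw [smul_sub, ← mul_smul, mul_inv_cancel_left]
        abel
      rw [e, ← mul_smul, (hab g hg _ a.2).eq, mul_smul] at h
      exact (MulAction.injective (a : Γ)) h
    generalize (a⁻¹ * b : ↥A) = x at hx ⊢
    intro y hy
    obtain ⟨f, hf, z, hz, rfl⟩ := AddSubgroup.mem_sup.mp hy
    rw [smul_add, hf _ x.2]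
    congr 1
    refine AddSubgroup.closure_induction (p := fun u _ => (x : Γ) • u = u) ?_ (smul_zero _)
      (fun a b _ _ ha hb => by rw [smul_add, ha, hb]) (fun a _ ha => by rw [smul_neg, ha]) hz
    rintro u ⟨c, hc, w, rfl, rfl⟩
    have h1 := hx c hc
    rw [smul_sub, sub_eq_iff_eq_add, ← mul_smul] at h1
    rw [smul_sub, ← mul_smul, (hab _ x.2 _ hc).eq, h1]
    abel
  have hc := Nat.card_le_card_of_injective ψ hψ
  have eA : Nat.card A = Nat.card (↥A ⧸ D.subgroupOf A) * Nat.card D := by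
    rw [Subgroup.card_eq_card_quotient_mul_card_subgroup (D.subgroupOf A),
      Nat.card_congr (Subgroup.subgroupOfEquivOfLe (inf_le_left : D ≤ A)).toEquiv]
  have eX : Nat.card X = Nat.card (↥X ⧸ (fix V A).addSubgroupOf X) * Nat.card (fix V A) := by
    have hfX : fix V A ≤ X := le_sup_left
    rw [AddSubgroup.card_eq_card_quotient_mul_card_addSubgroup ((fix V A).addSubgroupOf X),
      Nat.card_congr (AddSubgroup.addSubgroupOfEquivOfLe hfX).toEquiv]
  have hle : X ≤ fix V D := le_fix_fixer X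
  have h1 : Nat.card A * Nat.card (fix V A) ≤ Nat.card D * Nat.card X := by
    rw [eA, eX, mul_comm (Nat.card (↥A ⧸ _)) (Nat.card D), mul_assoc]
    exact Nat.mul_le_mul_left _ (Nat.mul_le_mul_right _ hc)
  have h2 := Nat.mul_le_mul_left (Nat.card D) (AddSubgroup.card_le_of_le hle)
  have h3 := hB D inf_le_left
  refine ⟨(AddSubgroup.eq_of_le_of_card_ge hle ?_).symm, le_antisymm (h2.trans h3) h1⟩
  exact Nat.le_of_mul_le_mul_left (h3.trans h1) Nat.card_pos

theorem attains_all (hab : ∀ a ∈ A, ∀ b ∈ A, Commute a b) (hB : Best V A) (S : Set V) :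
    Attains A (disp A S) := by
  induction S, Set.toFinite S using Set.Finite.induction_on with
  | empty => exact attains_empty
  | @insert v t _ _ ih => rw [disp_insert]; exact attains_sup hab hB (attains_single hab hB v) ih

/-- A family of unipotent operators contracting a group onto itself kills it. -/
theorem contract_eq_bot {p : ℕ} [Fact p.Prime] (hp : ∀ v : V, p • v = 0)
    (hab : ∀ a ∈ A, ∀ b ∈ A, Commute a b) (hpow : ∀ a ∈ A, a ^ p = 1) {M : AddSubgroup V}
    (hM : ∀ a ∈ A, ∀ m ∈ M, a • m ∈ M) : ∀ L : List Γ, (∀ c ∈ L, c ∈ A) →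
      M ≤ AddSubgroup.closure {x | ∃ c ∈ L, ∃ m ∈ M, x = c • m - m} → M = ⊥ := by
  intro L
  induction L with
  | nil => intro _ h; simpa using h
  | cons c L ih =>
    intro hL h
    have hc : c ∈ A := hL c List.mem_cons_self
    have hL' : ∀ d ∈ L, d ∈ A := fun d hd => hL d (List.mem_cons_of_mem _ hd)
    refine ih hL' ?_
    set T := AddSubgroup.closure {x | ∃ d ∈ L, ∃ m ∈ M, x = d • m - m} with hT
    have hd : ∀ x ∈ T, c • x - x ∈ T := by
      intro x hx
      refine AddSubgroup.closure_induction (p := fun y _ => c • y - y ∈ T) ?_ (by simp) ?_ ?_ hx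
      · rintro y ⟨d, hd, m, hm, rfl⟩
        refine AddSubgroup.subset_closure ⟨d, hd, c • m - m, sub_mem (hM c hc m hm) hm, ?_⟩
        simp only [smul_sub, ← mul_smul]
        rw [(hab c hc d (hL' d hd)).eq]
        abel
      · intro y z _ _ hy hz
        convert add_mem hy hz using 1
        rw [smul_add]; abel
      · intro y _ hy
        convert neg_mem hy using 1
        rw [smul_neg]; abel
    have hstep : ∀ i : ℕ, ∀ m ∈ M, ∃ m' ∈ M, m - ((fun v : V => c • v - v)^[i]) m' ∈ T := by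
      intro i
      induction i with
      | zero => exact fun m hm => ⟨m, hm, by simp [zero_mem]⟩
      | succ i ihi =>
        intro m hm
        have h1 : ∀ x ∈ M, ∃ u ∈ M, x - (c • u - u) ∈ T := by
          intro x hx
          refine AddSubgroup.closure_induction
            (p := fun y _ => ∃ u ∈ M, y - (c • u - u) ∈ T) ?_ ⟨0, zero_mem _, by simp⟩ ?_ ?_ (h hx)
          · rintro y ⟨d, hd', u, hu, rfl⟩
            rcases List.mem_cons.mp hd' with rfl | hd'
            · exact ⟨u, hu, by simp [zero_mem]⟩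
            · exact ⟨0, zero_mem _, by
                simpa using (AddSubgroup.subset_closure ⟨d, hd', u, hu, rfl⟩ : d • u - u ∈ T)⟩
          · rintro y z _ _ ⟨u, hu, h1⟩ ⟨w, hw, h2⟩
            refine ⟨u + w, add_mem hu hw, ?_⟩
            convert add_mem h1 h2 using 1
            rw [smul_add]; abel
          · rintro y _ ⟨u, hu, h1⟩
            refine ⟨-u, neg_mem hu, ?_⟩
            convert neg_mem h1 using 1
            rw [smul_neg]; abel
        obtain ⟨u, hu, h2⟩ := h1 m hm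
        obtain ⟨w, hw, h3⟩ := ihi u hu
        refine ⟨w, hw, ?_⟩
        rw [Function.iterate_succ_apply']
        convert add_mem h2 (hd _ h3) using 1
        rw [smul_sub]; abel
    intro m hm
    obtain ⟨m', -, h'⟩ := hstep p m hm
    rw [exists_nilp hp (hpow c hc)] at h'
    simpa using h'

/-- Replacement: a best offender contains a nontrivial quadratic one attaining the same bound. -/
theorem replacement [FaithfulSMul Γ V] {p : ℕ} [Fact p.Prime] (hp : ∀ v : V, p • v = 0)
    (hab : ∀ a ∈ A, ∀ b ∈ A, Commute a b) (hpow : ∀ a ∈ A, a ^ p = 1) (hA : A ≠ ⊥)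
    (hB : Best V A) : ∃ Q ≤ A, Q ≠ ⊥ ∧ Best V Q ∧
      ∀ b ∈ Q, ∀ a ∈ A, ∀ v : V, b • (a • v - v) = a • v - v := by
  classical
  set X := disp A (Set.univ : Set V) with hXdef
  obtain ⟨h1, h2⟩ := attains_all hab hB (Set.univ : Set V)
  rw [← hXdef] at h1 h2
  have hmem : ∀ a ∈ A, ∀ v : V, a • v - v ∈ X := fun a ha v =>
    AddSubgroup.mem_sup_right (AddSubgroup.subset_closure ⟨a, ha, v, trivial, rfl⟩)
  refine ⟨A ⊓ fixer Γ X, inf_le_left, ?_, ?_, fun b hb a ha v =>
    mem_fixer.mp hb.2 _ (hmem a ha v)⟩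
  · intro hQ
    rw [hQ] at h1
    have hXtop : ∀ v : V, v ∈ X := fun v => by
      rw [← h1]
      exact fun g hg => by rw [Subgroup.mem_bot.mp hg, one_smul]
    let M : AddSubgroup V := AddSubgroup.closure {x | ∃ c ∈ A, ∃ v : V, x = c • v - v}
    have hM : ∀ a ∈ A, ∀ m ∈ M, a • m ∈ M := by
      intro a ha m hm
      have : a • m = m + (a • m - m) := by abel
      rw [this]
      exact add_mem hm (AddSubgroup.subset_closure ⟨a, ha, m, rfl⟩)
    have hbot : M = ⊥ := by
      refine contract_eq_bot hp hab hpow hM (A : Set Γ).toFinite.toFinset.toList (by simp) ?_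
      refine (AddSubgroup.closure_le _).mpr ?_
      rintro x ⟨c, hc, v, rfl⟩
      obtain ⟨f, hf, m, hm, rfl⟩ := AddSubgroup.mem_sup.mp (hXtop v)
      refine AddSubgroup.subset_closure ⟨c, by simpa using hc, m,
        AddSubgroup.closure_mono (fun y hy => ?_) hm, ?_⟩
      · obtain ⟨d, hd, u, -, rfl⟩ := hy
        exact ⟨d, hd, u, rfl⟩
      · rw [smul_add, hf c hc]; abel
    refine hA ((eq_bot_iff_forall _).mpr fun a ha => eq_of_smul_eq_smul fun v : V => ?_)
    have : a • v - v ∈ M := AddSubgroup.subset_closure ⟨a, ha, v, rfl⟩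
    rw [hbot, AddSubgroup.mem_bot] at this
    rw [one_smul]
    exact sub_eq_zero.mp this
  · intro B hBQ
    rw [h1, h2]
    exact hB B (hBQ.trans inf_le_left)

end Cfsg.Agent.PGV
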