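import Mathlib
import Cfsg.Agent.Layer.Components

/-!
# Groups acting on a finite abelian group

Fixed points, the offender predicate, and small facts on perfect groups and unipotent elements.
-/

set_option autoImplicit false
set_option linter.unusedSectionVars false

namespace Cfsg.Agent.PGV

open Subgroup
open scoped commutatorElement

variable {Γ : Type*} [Group Γ] {V : Type*} [AddCommGroup V] [DistribMulAction Γ V]

/-- The fixed points of a subgroup. -/
def fix (V : Type*) [AddCommGroup V] [DistribMulAction Γ V] (S : Subgroup Γ) : AddSubgroup V where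
  carrier := {v | ∀ g ∈ S, g • v = v}
  zero_mem' g _ := smul_zero g
  add_mem' hu hv g hg := by rw [smul_add, hu g hg, hv g hg]
  neg_mem' hu g hg := by rw [smul_neg, hu g hg]

theorem mem_fix {S : Subgroup Γ} {v : V} : v ∈ fix V S ↔ ∀ g ∈ S, g • v = v := Iff.rfl

theorem fix_anti {S T : Subgroup Γ} (h : S ≤ T) : fix V T ≤ fix V S := fun _ hv g hg => hv g (h hg)

theorem fix_closure {v : V} {s : Set Γ} (h : ∀ g ∈ s, g • v = v) :
    v ∈ fix V (closure s) := by
  intro g hg
  exact (closure_le (MulAction.stabilizer Γ v)).mpr (fun x hx => h x hx) hg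

theorem fix_sup (S T : Subgroup Γ) : fix V (S ⊔ T) = fix V S ⊓ fix V T := by
  refine le_antisymm (le_inf (fix_anti le_sup_left) (fix_anti le_sup_right)) fun v hv g hg => ?_
  exact (sup_le (fun x hx => hv.1 x hx) (fun x hx => hv.2 x hx) : S ⊔ T ≤ MulAction.stabilizer Γ v) hg

/-- No subgroup of `A` has a larger product of order and number of fixed points. -/
def Best (V : Type*) [AddCommGroup V] [DistribMulAction Γ V] (A : Subgroup Γ) : Prop :=
  ∀ B ≤ A, Nat.card B * Nat.card (fix V B) ≤ Nat.card A * Nat.card (fix V A)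

/-- The element `g` maps `K` into itself by conjugation. -/
def Nor (g : Γ) (K : Subgroup Γ) : Prop := ∀ k ∈ K, g * k * g⁻¹ ∈ K

/-- The translate of `K` by `g` commutes with `K`. -/
def Com (g : Γ) (K : Subgroup Γ) : Prop := ∀ k ∈ K, ∀ l ∈ K, Commute (g * k * g⁻¹) l

theorem nor_mul {g h : Γ} {K : Subgroup Γ} (hg : Nor g K) (hh : Nor h K) : Nor (g * h) K := by
  intro k hk
  have := hg _ (hh k hk)
  simpa [mul_assoc] using this

theorem nor_one (K : Subgroup Γ) : Nor 1 K := fun k hk => by simpa using hk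

theorem nor_pow {g : Γ} {K : Subgroup Γ} (hg : Nor g K) : ∀ n : ℕ, Nor (g ^ n) K
  | 0 => by rw [pow_zero]; exact nor_one K
  | n + 1 => by rw [pow_succ]; exact nor_mul (nor_pow hg n) hg

theorem nor_inv [Finite Γ] {g : Γ} {K : Subgroup Γ} (hg : Nor g K) : Nor g⁻¹ K := by
  obtain ⟨n, -, hn⟩ := (isOfFinOrder_of_finite g).exists_pow_eq_one
  have hpos : g⁻¹ = g ^ (orderOf g - 1) := by
    rw [inv_eq_iff_mul_eq_one, ← pow_succ', Nat.sub_add_cancel (orderOf_pos g), pow_orderOf_eq_one]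
  rw [hpos]
  exact nor_pow hg _

theorem commutator_stab_closure [Finite Γ] {K : Subgroup Γ} (hK : ⁅K, K⁆ = K) (S : Subgroup Γ)
    (h : ∀ g ∈ K, ∀ k ∈ K, ⁅g, k⁆ ∈ S) : K ≤ S := by
  rw [← hK]
  exact Subgroup.commutator_le.mpr h

/-- A perfect group fixes a point when it fixes all its displacements. -/
theorem perfect_fix [Finite Γ] {K : Subgroup Γ} (hK : ⁅K, K⁆ = K) {u : V}
    (h : ∀ g ∈ K, ∀ k ∈ K, g • (k • u - u) = k • u - u) : ∀ g ∈ K, g • u = u := by
  have hgh : ∀ g ∈ K, ∀ k ∈ K, (g * k) • u = (k * g) • u := by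
    intro g hg k hk
    have h1 := h g hg k hk
    have h2 := h k hk g hg
    rw [smul_sub, sub_eq_iff_eq_add, ← mul_smul] at h1 h2
    rw [h1, h2]
    abel
  refine commutator_stab_closure hK (MulAction.stabilizer Γ u) fun g hg k hk => ?_
  have h3 := hgh g⁻¹ (inv_mem hg) k⁻¹ (inv_mem hk)
  show ⁅g, k⁆ • u = u
  rw [commutatorElement_def, mul_assoc (g * k), mul_smul (g * k), h3, ← mul_smul]
  simp [mul_assoc]

/-- A quasisimple subgroup is not a `p`-group modulo its centre. -/
theorem qs_not_pow [Finite Γ] {p : ℕ} [Fact p.Prime] {K : Subgroup Γ}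
    (hK : Cfsg.IsQuasisimple K) (h : ∀ k ∈ K, ∃ n : ℕ, ∀ l ∈ K, Commute (k ^ p ^ n) l) : False := by
  haveI := hK.1
  haveI := hK.2
  haveI : Group.IsPerfect (↥K ⧸ center ↥K) :=
    Group.IsPerfect.ofSurjective (QuotientGroup.mk'_surjective (center ↥K))
  have hp : IsPGroup p (↥K ⧸ center ↥K) := by
    intro x
    obtain ⟨k, rfl⟩ := QuotientGroup.mk'_surjective (center ↥K) x
    obtain ⟨n, hn⟩ := h k k.2
    refine ⟨n, ?_⟩
    rw [← map_pow, QuotientGroup.mk'_apply, QuotientGroup.eq_one_iff, mem_center_iff]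
    exact fun l => Subtype.ext (hn l l.2).eq.symm
  haveI : Nontrivial (↥K ⧸ center ↥K) := IsSimpleGroup.toNontrivial
  haveI := hp.isNilpotent
  exact Group.IsPerfect.not_isSolvable (↥K ⧸ center ↥K) inferInstance

theorem qs_no_pexp [Finite Γ] {p : ℕ} [Fact p.Prime] {K : Subgroup Γ} (hK : Cfsg.IsQuasisimple K)
    (h : ∀ k ∈ K, ∃ n : ℕ, k ^ p ^ n = 1) : False :=
  qs_not_pow hK fun k hk => by
    obtain ⟨n, hn⟩ := h k hk
    exact ⟨n, fun l _ => by rw [hn]; exact Commute.one_left l⟩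

/-- Both `Nor` and `Com` would make `K` abelian. -/
theorem nor_com_false [Finite Γ] {g : Γ} {K : Subgroup Γ} (hK : Cfsg.IsQuasisimple K)
    (hn : Nor g K) (hc : Com g K) : False := by
  haveI : Fact (Nat.Prime 2) := ⟨Nat.prime_two⟩
  refine qs_not_pow (p := 2) hK fun k hk => ⟨0, fun l hl => ?_⟩
  have h := hc _ (nor_inv hn k hk) l hl
  simpa [mul_assoc] using h

/-- An element moving `K` moves it to the translate. -/
theorem exists_mem_commutator_ne [Finite Γ] {K : Subgroup Γ} (hK : Cfsg.IsQuasisimple K) {b : Γ}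
    (hb : Nor b K) (hne : ¬ ∀ k ∈ K, Commute b k) (P : Subgroup Γ)
    (h : ∀ k ∈ K, k * (b * k⁻¹ * b⁻¹) ∈ P) : K ≤ P := by
  let N : Subgroup Γ := closure {x | ∃ k ∈ K, x = k * (b * k⁻¹ * b⁻¹)}
  have hNP : N ≤ P := (closure_le P).mpr (by rintro x ⟨k, hk, rfl⟩; exact h k hk)
  have hNK : N ≤ K := (closure_le K).mpr (by
    rintro x ⟨k, hk, rfl⟩
    exact mul_mem hk (hb _ (inv_mem hk)))
  have hKN : K ≤ normalizer (N : Set Γ) := by
    refine Subgroup.le_normalizer_iff.mpr ?_
    intro l hl x hx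
    refine closure_induction (p := fun y _ => l * y * l⁻¹ ∈ N) ?_ (by simp) ?_ ?_ hx
    · rintro y ⟨k, hk, rfl⟩
      have h1 : (l * k) * (b * (l * k)⁻¹ * b⁻¹) ∈ N := subset_closure ⟨l * k, mul_mem hl hk, rfl⟩
      have h2 : l * (b * l⁻¹ * b⁻¹) ∈ N := subset_closure ⟨l, hl, rfl⟩
      have := mul_mem h1 (inv_mem h2)
      convert this using 1
      group
    · intro y z _ _ hy hz
      have := mul_mem hy hz
      simpa [mul_assoc] using this
    · intro y _ hy
      have := inv_mem hy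
      simpa [mul_assoc] using this
  rcases Layer.qs_sub_normalized_cases hK hNK hKN with e | e
  · exact e ▸ hNP
  exfalso
  refine hne fun k hk => ?_
  have hc : ∀ k ∈ K, ∀ l ∈ K, Commute (k * (b * k⁻¹ * b⁻¹)) l := fun k hk l hl =>
    Layer.commute_of_commutator_eq_bot e (subset_closure ⟨k, hk, rfl⟩) hl
  have hmul : ∀ g ∈ K, ∀ m ∈ K, g * m * (b * (g * m)⁻¹ * b⁻¹) =
      g * (b * g⁻¹ * b⁻¹) * (m * (b * m⁻¹ * b⁻¹)) := by
    intro g hg m hm
    have : Commute (m * (b * m⁻¹ * b⁻¹)) (b * g⁻¹ * b⁻¹) :=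
      hc m hm _ (hb _ (inv_mem hg))
    calc g * m * (b * (g * m)⁻¹ * b⁻¹)
        = g * ((m * (b * m⁻¹ * b⁻¹)) * (b * g⁻¹ * b⁻¹)) := by group
      _ = g * ((b * g⁻¹ * b⁻¹) * (m * (b * m⁻¹ * b⁻¹))) := by rw [this.eq]
      _ = _ := by rw [mul_assoc g]
  let f : ↥K →* Γ :=
    { toFun := fun k => (k : Γ) * (b * (k : Γ)⁻¹ * b⁻¹)
      map_one' := by simp
      map_mul' := fun g m => hmul g g.2 m m.2 }
  have hK' : K ≤ centralizer {b} := by
    refine commutator_stab_closure (Layer.qs_subgroup_perfect hK) _ fun g hg m hm => ?_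
    have h1 : f ⁅(⟨g, hg⟩ : ↥K), ⟨m, hm⟩⁆ = 1 := by
      rw [map_commutatorElement, commutatorElement_eq_one_iff_commute]
      exact hc g hg _ (mul_mem hm (hb _ (inv_mem hm)))
    have h2 : ⁅g, m⁆ * (b * ⁅g, m⁆⁻¹ * b⁻¹) = 1 := h1
    rw [mem_centralizer_singleton_iff]
    have h3 : ⁅g, m⁆ = b * ⁅g, m⁆ * b⁻¹ := by
      exact (mul_eq_one_iff_eq_inv.mp h2).trans (by group)
    calc ⁅g, m⁆ * b = (b * ⁅g, m⁆ * b⁻¹) * b := by rw [← h3]
      _ = b * ⁅g, m⁆ := inv_mul_cancel_right _ _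
  exact (mem_centralizer_singleton_iff.mp (hK' hk)).symm

/-- The displacement of a fixed displacement grows linearly. -/
theorem pow_smul_of_fixed {g : Γ} {u : V} (h : g • (g • u - u) = g • u - u) (n : ℕ) :
    g ^ n • u = u + n • (g • u - u) := by
  induction n with
  | zero => simp
  | succ n ih =>
    rw [pow_succ', mul_smul, ih, smul_add, smul_comm g n (g • u - u), h, succ_nsmul]
    abel

/-- An element of order `p` acts unipotently. -/
theorem exists_nilp {p : ℕ} [Fact p.Prime] (hp : ∀ v : V, p • v = 0) {g : Γ} (hg : g ^ p = 1) :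
    ((fun v : V => g • v - v)^[p]) = fun _ => 0 := by
  let c : AddMonoid.End V := DistribMulAction.toAddMonoidEnd Γ V g
  have hit : ∀ (n : ℕ) (v : V), ((fun v : V => g • v - v)^[n]) v = ((c - 1) ^ n) v := by
    intro n
    induction n with
    | zero => intro v; rfl
    | succ n ih => intro v; rw [Function.iterate_succ_apply', pow_succ', ih]; rfl
  obtain ⟨r, hr⟩ := (show Commute (c - 1) (1 : AddMonoid.End V) from
    Commute.one_right _).exists_add_pow_prime_eq (Fact.out : p.Prime)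
  rw [sub_add_cancel, one_pow, ← map_pow, hg, map_one] at hr
  have hpz : ((p : AddMonoid.End V)) = 0 := by
    apply AddMonoidHom.ext
    intro v
    show (p : AddMonoid.End V) v = 0
    rw [AddMonoid.End.natCast_apply]
    exact hp v
  simp only [hpz, zero_mul, add_zero] at hr
  have hz : (c - 1) ^ p = 0 := by
    have := congrArg (fun x => x - 1) hr
    simpa using this.symm
  funext v
  rw [hit, hz]
  rfl

end Cfsg.Agent.PGV
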