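import Cfsg.Agent.PGV.Basic

/-!
# Configurations in characteristic two

An involution moving a quasisimple group to a commuting translate, and a group normalising it.
-/

set_option autoImplicit false
set_option linter.unusedSectionVars false
set_option maxHeartbeats 400000

namespace Cfsg.Agent.PGV

open Subgroup

variable {Γ : Type*} [Group Γ]

/-- The involution `a` moves `K` to a commuting translate, `B` normalises `K`, commutes with `a`. -/
structure Conf (K B : Subgroup Γ) (a : Γ) : Prop where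
  qs : Cfsg.IsQuasisimple K
  inv : a * a = 1
  com : Com a K
  comm : ∀ b ∈ B, ∀ c ∈ B, Commute b c
  commA : ∀ b ∈ B, Commute a b
  nor : ∀ b ∈ B, Nor b K
  gen : closure ((K : Set Γ) ∪ (B : Set Γ) ∪ {a}) = ⊤

/-- The quadratic conditions on a module of characteristic two. -/
structure Quad (U : Type*) [AddCommGroup U] [DistribMulAction Γ U] (K B : Subgroup Γ) (a : Γ) :
    Prop where
  two : ∀ x : U, x + x = 0
  bb : ∀ b ∈ B, ∀ c ∈ B, ∀ u : U, b • (c • u - u) = c • u - u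
  ba : ∀ b ∈ B, ∀ u : U, b • (a • u - u) = a • u - u
  theta : ∀ k ∈ K, ∀ u : U, (k * (a * k * a⁻¹)) • (a • u - u) = a • u - u

/-- The conclusion of the counting argument. -/
def Bound (U : Type*) [AddCommGroup U] [DistribMulAction Γ U] (K B : Subgroup Γ) (a : Γ) : Prop :=
  ∃ N ≤ B, ∃ M ≤ K, ∃ t m : ℕ, (∀ k ∈ K, ∀ x ∈ M, k * x * k⁻¹ ∈ M) ∧
    (∀ x ∈ M, ∀ u : U, x ^ 2 ^ m • u = u) ∧
    (∀ b ∈ N, ∀ k ∈ K, k * (b * k⁻¹ * b⁻¹) ∈ M) ∧ (t = 0 → M = K) ∧
    Nat.card B * 4 ^ t * Nat.card (fix U (B ⊔ zpowers a)) ≤ Nat.card U * Nat.card N ∧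
    Nat.card B * Nat.card (fix U B) ≤ Nat.card U * Nat.card N ∧
    (Nat.card B * Nat.card (fix U B) = Nat.card U * Nat.card N → N = B)

theorem mem_fix_sup_zpowers {U : Type*} [AddCommGroup U] [DistribMulAction Γ U] {B : Subgroup Γ}
    {a : Γ} {u : U} : u ∈ fix U (B ⊔ zpowers a) ↔ (∀ b ∈ B, b • u = u) ∧ a • u = u := by
  rw [fix_sup]
  refine ⟨fun h => ⟨h.1, h.2 a (mem_zpowers a)⟩, fun h => ⟨h.1, ?_⟩⟩
  rw [zpowers_eq_closure]
  exact fix_closure (by simpa using h.2)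

end Cfsg.Agent.PGV
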