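import Cfsg.Agent.PGV.Basic

/-!
# Quadratic groups of exponent two and translates of a quasisimple group

A quadratic four-group cannot move a quasisimple group to four commuting translates.
-/

set_option autoImplicit false
set_option linter.unusedSectionVars false
set_option maxHeartbeats 400000

namespace Cfsg.Agent.PGV

open Subgroup
open scoped commutatorElement

variable {Γ : Type*} [Group Γ] [Finite Γ] {V : Type*} [AddCommGroup V] [DistribMulAction Γ V]
  {K : Subgroup Γ}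

/-- A perfect group fixes a point at which it acts commutatively. -/
theorem perfect_comm_fix (hK : ⁅K, K⁆ = K) {M : Type*} [AddCommGroup M] [DistribMulAction Γ M]
    (S : Set M) (hS : ∀ g ∈ K, ∀ u ∈ S, g • u ∈ S)
    (h : ∀ g ∈ K, ∀ k ∈ K, ∀ u ∈ S, g • k • u = k • g • u) : ∀ g ∈ K, ∀ u ∈ S, g • u = u := by
  intro g hg u hu
  refine commutator_stab_closure hK (MulAction.stabilizer Γ u) (fun g hg k hk => ?_) hg
  rw [MulAction.mem_stabilizer_iff, commutatorElement_def, mul_smul, mul_smul, mul_smul,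
    h g hg k hk _ (hS _ (inv_mem hg) _ (hS _ (inv_mem hk) _ hu)), smul_inv_smul, smul_inv_smul]

/-- A group moved to a commuting translate by `a` cannot fix all displacements of `a`. -/
theorem move_fix_false [FaithfulSMul Γ V] (hK : Cfsg.IsQuasisimple K) {a : Γ} (hC : Com a K)
    (hI : ∀ k ∈ K, ∀ v : V, k • (a • v - v) = a • v - v) : False := by
  have hP := Layer.qs_subgroup_perfect hK
  have hxa : ∀ k ∈ K, ∀ v : V, k • a • v - a • v = k • v - v := by
    intro k hk v
    have h := hI k hk v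
    rw [smul_sub] at h
    linear_combination (norm := abel) h
  have hla : ∀ k ∈ K, ∀ l ∈ K, ∀ v : V,
      k • l • v - l • v = (a * l * a⁻¹) • (k • v - v) := by
    intro k hk l hl v
    have e : a • l • v = (a * l * a⁻¹) • a • v := by simp [mul_smul]
    rw [← hxa k hk (l • v), e, ← hxa k hk v, smul_sub, ← mul_smul, ← (hC l hl k hk).eq, mul_smul]
  have hcomm : ∀ m ∈ K, ∀ k ∈ K, ∀ l ∈ K, ∀ v : V,
      m • (k • l • v - l • k • v) = k • l • v - l • k • v := by
    intro m hm k hk l hl v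
    have h1 := hla m hm l hl (k • v - v)
    have h2 : m • (k • l • v - l • v) - (k • l • v - l • v) =
        (a * l * a⁻¹) • (m • (k • v - v) - (k • v - v)) := by
      rw [hla k hk l hl v, smul_sub (a * l * a⁻¹) (m • (k • v - v)), ← mul_smul, ← (hC l hl m hm).eq,
        mul_smul]
    rw [← h1] at h2
    simp only [smul_sub] at h2 ⊢
    linear_combination (norm := abel) h2
  have hall : ∀ g ∈ K, ∀ m ∈ K, ∀ u : V, m • (g • u - u) = g • u - u := by
    let T : Subgroup Γ :=
      { carrier := {g | g ∈ K ∧ ∀ m ∈ K, ∀ u : V, m • (g • u - u) = g • u - u}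
        one_mem' := ⟨one_mem _, fun m _ u => by simp⟩
        mul_mem' := by
          rintro g h ⟨hg, hg'⟩ ⟨hh, hh'⟩
          refine ⟨mul_mem hg hh, fun m hm u => ?_⟩
          have e : (g * h) • u - u = (g • (h • u - u)) + (g • u - u) := by
            rw [mul_smul, smul_sub]; abel
          rw [e, smul_add, hg' m hm u, hh' g hg u, hh' m hm u]
        inv_mem' := by
          rintro g ⟨hg, hg'⟩
          refine ⟨inv_mem hg, fun m hm u => ?_⟩
          have e : g⁻¹ • u - u = -(g • (g⁻¹ • u) - g⁻¹ • u) := by rw [smul_inv_smul]; abel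
          rw [e, smul_neg, hg' m hm] }
    refine fun g hg => ((?_ : K ≤ T) hg).2
    refine commutator_stab_closure hP T fun k hk l hl => ⟨?_, fun m hm u => ?_⟩
    · rw [commutatorElement_def]
      exact mul_mem (mul_mem (mul_mem hk hl) (inv_mem hk)) (inv_mem hl)
    · have := hcomm m hm k hk l hl (k⁻¹ • l⁻¹ • u)
      simpa [commutatorElement_def, mul_smul] using this
  haveI := Layer.qs_nontrivial hK
  obtain ⟨⟨k, hk⟩, hk1⟩ := exists_ne (1 : ↥K)
  refine hk1 (Subtype.ext (eq_of_smul_eq_smul fun u : V => ?_))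
  show k • u = (1 : Γ) • u
  rw [one_smul]
  exact perfect_fix hP (fun g hg l hl => hall l hl g hg u) k hk

/-- Four commuting translates are impossible for a quadratic four-group. -/
theorem orbit_false [FaithfulSMul Γ V] (htwo : ∀ v : V, v + v = 0) (hK : Cfsg.IsQuasisimple K)
    {a c : Γ} (haa : a * a = 1) (hcc : c * c = 1) (hac : Commute a c)
    (hq : ∀ v : V, c • (a • v - v) = a • v - v)
    (hCa : Com a K) (hCc : Com c K) (hCac : Com (a * c) K) : False := by
  have hP := Layer.qs_subgroup_perfect hK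
  have hneg : ∀ x : V, -x = x := fun x => neg_eq_of_add_eq_zero_left (htwo x)
  have hsub : ∀ x y : V, x - y = x + y := fun x y => by rw [sub_eq_add_neg, hneg]
  have hai : a⁻¹ = a := inv_eq_of_mul_eq_one_right haa
  have hci : c⁻¹ = c := inv_eq_of_mul_eq_one_right hcc
  have haw : ∀ v : V, a • (a • v - v) = a • v - v := fun v => by
    rw [smul_sub, ← mul_smul, haa, one_smul, ← neg_sub, hneg]
  have c1 : ∀ g ∈ K, ∀ l ∈ K, Commute (a * g * a⁻¹) l := hCa
  have c2 : ∀ g ∈ K, ∀ l ∈ K, Commute (c * g * c⁻¹) l := hCc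
  have c3 : ∀ g ∈ K, ∀ l ∈ K, Commute (c * (a * g * a⁻¹) * c⁻¹) l := fun g hg l hl => by
    have h := hCac g hg l hl
    rw [hac.eq] at h
    simpa [mul_assoc] using h
  have conjA : ∀ {x y : Γ}, Commute x y → Commute (a * x * a⁻¹) (a * y * a⁻¹) :=
    fun h => h.map (MulAut.conj a).toMonoidHom
  have haca : ∀ g, a * (c * (a * g * a⁻¹) * c⁻¹) * a⁻¹ = c * g * c⁻¹ := fun g => by
    calc a * (c * (a * g * a⁻¹) * c⁻¹) * a⁻¹ = (a * c * a) * g * (a * c * a)⁻¹ := by group
      _ = (c * (a * a)) * g * (c * (a * a))⁻¹ := by rw [hac.eq, mul_assoc c]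
      _ = _ := by rw [haa, mul_one]
  have haca' : ∀ g, a * (c * g * c⁻¹) * a⁻¹ = c * (a * g * a⁻¹) * c⁻¹ := fun g => by
    calc a * (c * g * c⁻¹) * a⁻¹ = (a * c) * g * (a * c)⁻¹ := by group
      _ = (c * a) * g * (c * a)⁻¹ := by rw [hac.eq]
      _ = _ := by group
  have c4 : ∀ g ∈ K, ∀ l ∈ K, Commute (c * g * c⁻¹) (a * l * a⁻¹) := fun g hg l hl => by
    have := conjA (c3 g hg l hl)
    rwa [haca] at this
  have c5 : ∀ g ∈ K, ∀ l ∈ K, Commute (c * (a * g * a⁻¹) * c⁻¹) (a * l * a⁻¹) := fun g hg l hl => by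
    have := conjA (c2 g hg l hl)
    rwa [haca'] at this
  let σ : ↥K →* Γ :=
    { toFun := fun g => (g : Γ) * (a * g * a⁻¹)
      map_one' := by simp
      map_mul' := fun g l => by
        calc ((g : Γ) * l) * (a * (g * l) * a⁻¹)
            = g * (l * (a * g * a⁻¹)) * (a * l * a⁻¹) := by group
          _ = g * ((a * g * a⁻¹) * l) * (a * l * a⁻¹) := by rw [(c1 g g.2 l l.2).eq]
          _ = _ := by group }
  have hσ_a : ∀ g : ↥K, Commute (σ g) a := fun g => by
    have : a * σ g * a⁻¹ = σ g := by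
      calc a * ((g : Γ) * (a * g * a⁻¹)) * a⁻¹ = (a * g * a⁻¹) * ((a * a) * g * (a * a)⁻¹) := by
            group
        _ = (a * g * a⁻¹) * g := by simp [haa]
        _ = σ g := (c1 g g.2 g g.2).eq
    exact (mul_inv_eq_iff_eq_mul.mp this).symm
  have hστ : ∀ g l : ↥K, Commute (c * σ g * c⁻¹) (σ l) := fun g l => by
    have e : c * σ g * c⁻¹ = (c * g * c⁻¹) * (c * (a * g * a⁻¹) * c⁻¹) := by
      show c * ((g : Γ) * (a * g * a⁻¹)) * c⁻¹ = _
      group
    rw [e]
    exact ((c2 g g.2 l l.2).mul_right (c4 g g.2 l l.2)).mul_left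
      ((c3 g g.2 l l.2).mul_right (c5 g g.2 l l.2))
  have hstep : ∀ (g : ↥K) (v : V),
      (c * σ g * c⁻¹) • (a • v - v) = σ g • (a • v - v) := by
    intro g v
    have h1 : σ g • (a • v - v) = a • (σ g • v) - σ g • v := by
      rw [smul_sub, ← mul_smul, (hσ_a g).eq, mul_smul]
    have hcw : c⁻¹ • (a • v - v) = a • v - v := by rw [inv_smul_eq_iff, hq]
    rw [mul_smul, mul_smul, hcw, h1, hq]
  have hσI : ∀ (g : ↥K) (v : V), σ g • (a • v - v) = a • v - v := by
    intro g v
    have hinv : ∀ (g : ↥K) (u : V), u ∈ Set.range (fun v : V => a • v - v) →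
        σ g • u ∈ Set.range (fun v : V => a • v - v) := by
      rintro g _ ⟨v, rfl⟩
      exact ⟨σ g • v, by simp only [smul_sub, ← mul_smul, (hσ_a g).eq]⟩
    have hgl : ∀ (g l : ↥K) (u : V), u ∈ Set.range (fun v : V => a • v - v) →
        σ l • σ g • u = σ g • σ l • u := by
      intro g l u hu
      obtain ⟨v, rfl⟩ := hu
      obtain ⟨v', hv'⟩ := hinv l _ ⟨v, rfl⟩
      simp only at hv' ⊢
      calc σ l • σ g • (a • v - v) = σ l • (c * σ g * c⁻¹) • (a • v - v) := by rw [hstep]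
        _ = (c * σ g * c⁻¹) • σ l • (a • v - v) := by
            rw [← mul_smul, (hστ g l).symm.eq, mul_smul]
        _ = σ g • σ l • (a • v - v) := by rw [← hv', hstep]
    haveI := hK.1
    let S : Subgroup ↥K := (⨅ v : V, MulAction.stabilizer Γ (a • v - v)).comap σ
    have hle : (⊤ : Subgroup ↥K) ≤ S := by
      rw [← hK.1.commutator_eq_top, _root_.commutator_def, Subgroup.commutator_le]
      intro g _ l _
      simp only [S, Subgroup.mem_comap, Subgroup.mem_iInf, MulAction.mem_stabilizer_iff]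
      intro v
      rw [commutatorElement_def, map_mul, map_mul, map_mul, mul_smul, mul_smul, mul_smul,
        hgl l g _ (hinv _ _ (hinv _ _ ⟨v, rfl⟩)), ← mul_smul (σ g), ← map_mul, mul_inv_cancel,
        map_one, one_smul, ← mul_smul, ← map_mul, mul_inv_cancel, map_one, one_smul]
    have := hle (Subgroup.mem_top g)
    exact Subgroup.mem_iInf.mp this v
  refine move_fix_false (V := V) hK hCa fun k hk v => ?_
  obtain ⟨w, hw⟩ : ∃ w, w = a • v - v := ⟨_, rfl⟩
  rw [← hw]
  have hσw : ∀ g ∈ K, (g * (a * g * a⁻¹)) • w = w := fun g hg => hw ▸ hσI ⟨g, hg⟩ v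
  have hτw : ∀ g ∈ K, ((c * g * c⁻¹) * (c * (a * g * a⁻¹) * c⁻¹)) • w = w := fun g hg => by
    have h := (hstep ⟨g, hg⟩ v).trans (hσI ⟨g, hg⟩ v)
    rw [← hw] at h
    have e : c * σ ⟨g, hg⟩ * c⁻¹ = (c * g * c⁻¹) * (c * (a * g * a⁻¹) * c⁻¹) := by
      show c * (g * (a * g * a⁻¹)) * c⁻¹ = _
      group
    rwa [e] at h
  have haw' : a • w = w := hw ▸ haw v
  have hcw : c • w = w := hw ▸ hq v
  have hA : ∀ g ∈ K, (a * g * a⁻¹) • w = g⁻¹ • w := fun g hg => by
    rw [eq_inv_smul_iff, ← mul_smul, hσw g hg]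
  have hAC : ∀ g ∈ K, (c * (a * g * a⁻¹) * c⁻¹) • w = (c * g * c⁻¹)⁻¹ • w := fun g hg => by
    rw [eq_inv_smul_iff, ← mul_smul, hτw g hg]
  have hR : ∀ g ∈ K, g • w + g⁻¹ • w = (c * g * c⁻¹) • w + (c * g * c⁻¹)⁻¹ • w := by
    intro g hg
    have h := hq (g • w)
    have e1 : a • g • w = g⁻¹ • w := by
      rw [← hA g hg]
      conv_rhs => rw [mul_smul, inv_smul_eq_iff.mpr haw'.symm]
      rw [mul_smul]
    have e2 : c • g • w = (c * g * c⁻¹) • w := by
      conv_rhs => rw [mul_smul, inv_smul_eq_iff.mpr hcw.symm, mul_smul]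
    have e3 : c • g⁻¹ • w = (c * g * c⁻¹)⁻¹ • w := by
      conv_rhs => rw [mul_inv_rev, mul_inv_rev, inv_inv, mul_smul, mul_smul,
        inv_smul_eq_iff.mpr hcw.symm]
    rw [smul_sub, e1, e2, e3, hsub, hsub, add_comm] at h
    rw [h]
    abel
  have hy : ∀ h ∈ K, ∀ l ∈ K, ∀ g ∈ K,
      (l * (a * l * a⁻¹)) • g • (h • w + h⁻¹ • w) = g • (h • w + h⁻¹ • w) := by
    intro h hh l hl g hg
    obtain ⟨C, hC⟩ : ∃ C, C = c * h * c⁻¹ := ⟨_, rfl⟩
    have hCl : Commute C (l * (a * l * a⁻¹)) := hC ▸ (c2 h hh l hl).mul_right (c4 h hh l hl)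
    have hCg : ∀ x ∈ K, Commute C x := fun x hx => hC ▸ c2 h hh x hx
    have fixI : ∀ u : V, (l * (a * l * a⁻¹)) • (a • u - u) = a • u - u := hσI ⟨l, hl⟩
    have ea : ∀ x ∈ K, a • x • w = x⁻¹ • w := fun x hx => by
      rw [← hA x hx, mul_smul, mul_smul, inv_smul_eq_iff.mpr haw'.symm]
    have h1 := fixI (g⁻¹ • C • w)
    have e : a • g⁻¹ • C • w = C⁻¹ • g • w := by
      calc a • g⁻¹ • C • w = (a * g⁻¹ * a⁻¹) • (a * C * a⁻¹) • w := by
            simp only [mul_smul, inv_smul_smul, inv_smul_eq_iff.mpr haw'.symm]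
        _ = (a * g⁻¹ * a⁻¹) • C⁻¹ • w := by rw [hC, haca', hAC h hh]
        _ = C⁻¹ • (a * g⁻¹ * a⁻¹) • w := by
            rw [← mul_smul, ← (hC ▸ c4 h hh g⁻¹ (inv_mem hg) : Commute C _).inv_left.eq, mul_smul]
        _ = _ := by rw [hA _ (inv_mem hg), inv_inv]
    rw [e, hsub] at h1
    have h2 := congrArg (fun x => C • x) (fixI (g⁻¹ • w))
    simp only [ea _ (inv_mem hg), inv_inv, hsub] at h2
    rw [← mul_smul C, hCl.eq, mul_smul] at h2
    have h3 := congrArg₂ (· + ·) h1 h2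
    rw [← smul_add, smul_add C] at h3
    have e1 : C⁻¹ • g • w = g • C⁻¹ • w := by
      rw [← mul_smul, (hCg g hg).inv_left.eq, mul_smul]
    have e2 : C • g • w = g • C • w := by rw [← mul_smul, (hCg g hg).eq, mul_smul]
    have e3 : C • g⁻¹ • w = g⁻¹ • C • w := by
      rw [← mul_smul, (hCg g⁻¹ (inv_mem hg)).eq, mul_smul]
    have e4 : C⁻¹ • g • w + g⁻¹ • C • w + (C • g • w + C • g⁻¹ • w) =
        g • (h • w + h⁻¹ • w) := by
      rw [hR h hh, ← hC, e1, e2, e3, smul_add]
      linear_combination (norm := abel) htwo (g⁻¹ • C • w)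
    rwa [e4] at h3
  have hKy : ∀ h ∈ K, ∀ g ∈ K, g • (h • w + h⁻¹ • w) = h • w + h⁻¹ • w := by
    intro h hh g hg
    obtain ⟨y, hy'⟩ : ∃ y, y = h • w + h⁻¹ • w := ⟨_, rfl⟩
    have hy2 : ∀ l ∈ K, ∀ m ∈ K, (l * (a * l * a⁻¹)) • m • y = m • y := hy' ▸ hy h hh
    rw [← hy']
    refine commutator_stab_closure hP (MulAction.stabilizer Γ y) (fun m hm l hl => ?_) hg
    have hla : (a * l * a⁻¹) • y = l⁻¹ • y := by
      have := hy2 l hl 1 (one_mem _)
      rw [one_smul, mul_smul] at this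
      rw [eq_inv_smul_iff, this]
    have h5 : (m * l * m⁻¹ * l⁻¹) • y = y := by
      have := hy2 l hl m⁻¹ (inv_mem hm)
      rw [← mul_smul, mul_assoc l, (c1 l hl m⁻¹ (inv_mem hm)).eq, mul_smul, mul_smul, hla] at this
      simp only [mul_smul]
      rw [this, smul_inv_smul]
    rw [MulAction.mem_stabilizer_iff, commutatorElement_def]
    exact h5
  have h4 : ∀ h ∈ K, h ^ 4 • w = w := by
    intro h hh
    have h5 := hKy h hh h hh
    rw [smul_add, ← mul_smul h h, smul_inv_smul] at h5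
    have h6 := congrArg (fun x => h • x) h5
    simp only [smul_add, smul_inv_smul, ← mul_smul, mul_inv_cancel, one_smul] at h6
    have h7 := congrArg (fun x => h • x) h6
    simp only [smul_add, ← mul_smul, mul_inv_cancel, one_smul, mul_one] at h7
    rw [show h ^ 4 = h * (h * (h * h)) by simp [pow_succ, mul_assoc]]
    linear_combination (norm := abel) h7 + h6
  let S : Subgroup Γ := closure ((fun x => x ^ 4) '' (K : Set Γ))
  have hSK : S ≤ K := (closure_le K).mpr (by rintro _ ⟨x, hx, rfl⟩; exact pow_mem hx 4)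
  have hKS : K ≤ normalizer (S : Set Γ) := by
    refine Subgroup.le_normalizer_iff.mpr fun l hl x hx => ?_
    refine closure_induction (p := fun y _ => l * y * l⁻¹ ∈ S) ?_ (by simp) ?_ ?_ hx
    · rintro _ ⟨y, hy, rfl⟩
      exact subset_closure ⟨l * y * l⁻¹, mul_mem (mul_mem hl hy) (inv_mem hl), conj_pow⟩
    · intro y z _ _ hy hz
      have := mul_mem hy hz
      simpa [mul_assoc] using this
    · intro y _ hy
      have := inv_mem hy
      simpa [mul_assoc] using this
  rcases Layer.qs_sub_normalized_cases hK hSK hKS with e | e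
  · exact fix_closure (by rintro _ ⟨x, hx, rfl⟩; exact h4 x hx) k (e.symm ▸ hk : k ∈ S)
  · haveI : Fact (Nat.Prime 2) := ⟨Nat.prime_two⟩
    exact (qs_not_pow (p := 2) hK fun x hx => ⟨2, fun l hl =>
      Layer.commute_of_commutator_eq_bot e (subset_closure ⟨x, hx, rfl⟩) hl⟩).elim

end Cfsg.Agent.PGV
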