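import Mathlib

/-!
# Simple algebras in characteristic two with a standard involution

A finite non-commutative simple ring of characteristic two with an anti-automorphism ι of order two
such that x + ι x and x * ι x are central is four-dimensional over its centre; quadratic groups of
automorphisms fixing the centre are small.
-/

set_option autoImplicit false
set_option linter.unusedSectionVars false

namespace Cfsg.Agent.PGV

variable {E : Type*} [Ring E] [Finite E]

/-- A simple ring with a standard involution in characteristic two. -/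
structure QAlg (ι : E →+ E) : Prop where
  two : (1 : E) + 1 = 0
  nc : ∃ x y : E, x * y ≠ y * x
  simple : ∀ J : AddSubgroup E, (∀ x, ∀ j ∈ J, x * j ∈ J ∧ j * x ∈ J) → J = ⊥ ∨ J = ⊤
  anti : ∀ x y, ι (x * y) = ι y * ι x
  invol : ∀ x, ι (ι x) = x
  cen : ∀ x y, Commute (x + ι x) y
  ncen : ∀ x y, Commute (x * ι x) y

namespace QAlg

variable {ι : E →+ E} (h : QAlg ι)
include h

theorem add_self (x : E) : x + x = 0 := by rw [← one_mul x, ← add_mul, h.two, zero_mul]

theorem cancel (x y : E) : x + (x + y) = y := by rw [← add_assoc, h.add_self, zero_add]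

theorem eq_of_add {x y : E} (hxy : x + y = 0) : x = y := by
  rw [← add_zero x, ← h.add_self y, ← add_assoc, hxy, zero_add]

theorem iota_eq (x : E) : ι x = (x + ι x) + x := by rw [add_comm (x + ι x), h.cancel]

theorem inv_central {l : E} (hl : ∀ y, Commute l y) (hl0 : l ≠ 0) :
    ∃ m, l * m = 1 ∧ ∀ y, Commute m y := by
  let J : AddSubgroup E := (⊤ : AddSubgroup E).map (AddMonoidHom.mulLeft l)
  rcases h.simple J (by
    rintro x _ ⟨y, -, rfl⟩
    refine ⟨⟨x * y, trivial, ?_⟩, ⟨y * x, trivial, (mul_assoc _ _ _).symm⟩⟩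
    show l * (x * y) = x * (l * y)
    rw [← mul_assoc, (hl x).eq, mul_assoc]) with hJ | hJ
  · refine absurd ?_ hl0
    have : l * 1 ∈ J := ⟨1, trivial, rfl⟩
    rwa [hJ, AddSubgroup.mem_bot, mul_one] at this
  · obtain ⟨m, -, hm⟩ : (1 : E) ∈ J := hJ ▸ trivial
    have hm1 : l * m = 1 := hm
    refine ⟨m, hm1, fun y => ?_⟩
    show m * y = y * m
    calc m * y = m * y * (l * m) := by rw [hm1, mul_one]
      _ = (l * m) * y * m := by rw [← mul_assoc (m * y), ← (hl (m * y)).eq, ← mul_assoc]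
      _ = y * m := by rw [hm1, one_mul]

theorem iota_central_comm {l : E} (hl : ∀ y, Commute l y) (y : E) : Commute (ι l) y := by
  have := congrArg ι (hl (ι y)).eq
  rw [h.anti, h.anti, h.invol] at this
  exact this.symm

theorem iota_central {l : E} (hl : ∀ y, Commute l y) : ι l = l := by
  by_contra hne
  have hm0 : l + ι l ≠ 0 := fun e => hne (h.eq_of_add e).symm
  have hm : ∀ y, Commute (l + ι l) y := fun y => (hl y).add_left (h.iota_central_comm hl y)
  have hcen : ∀ x y, Commute ((l + ι l) * x) y := by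
    intro x y
    have e : (l + ι l) * x = (l * x + ι (l * x)) + ι l * (x + ι x) := by
      rw [h.anti, ← (h.iota_central_comm hl (ι x)).eq, mul_add, add_mul]
      have := h.add_self (ι l * ι x)
      calc l * x + ι l * x = l * x + ι l * x + (ι l * ι x + ι l * ι x) := by rw [this, add_zero]
        _ = _ := by abel
    rw [e]
    exact (h.cen _ y).add_left ((h.iota_central_comm hl y).mul_left (h.cen x y))
  obtain ⟨m, hm1, hmc⟩ := h.inv_central hm hm0
  obtain ⟨x, y, hxy⟩ := h.nc
  refine hxy ?_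
  have hm1' : m * (l + ι l) = 1 := by rw [(hmc _).eq, hm1]
  have := (hmc y).mul_left (hcen x y)
  rw [← mul_assoc, hm1', one_mul] at this
  exact this

/-- The trace. -/
def tr (_h : QAlg ι) : E →+ E := AddMonoidHom.id E + ι

theorem tr_apply (x : E) : h.tr x = x + ι x := rfl

theorem tr_comm (x y : E) : Commute (h.tr x) y := h.cen x y

theorem tr_smul {l : E} (hl : ∀ y, Commute l y) (x : E) : h.tr (l * x) = l * h.tr x := by
  rw [h.tr_apply, h.tr_apply, h.anti, h.iota_central hl, mul_add, (hl (ι x)).eq]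

theorem tr_smul' {l : E} (hl : ∀ y, Commute l y) (x : E) : h.tr (x * l) = l * h.tr x := by
  rw [← (hl x).eq, h.tr_smul hl]

theorem tr_central {l : E} (hl : ∀ y, Commute l y) : h.tr l = 0 := by
  rw [h.tr_apply, h.iota_central hl, h.add_self]

theorem iota_of_tr_zero {x : E} (hx : h.tr x = 0) : ι x = x := (h.eq_of_add hx).symm

theorem tr_mul_comm (x y : E) : h.tr (x * y) = h.tr (y * x) := by
  rw [h.tr_apply, h.tr_apply, h.anti, h.anti, h.iota_eq x, h.iota_eq y]
  have hx := h.cen x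
  have hy := h.cen y
  generalize x + ι x = a at hx ⊢
  generalize y + ι y = b at hy ⊢
  rw [add_mul, mul_add, mul_add, add_mul, mul_add, mul_add, (hy a).eq, (hy x).eq, ← (hx y).eq]
  abel

theorem exists_tr_one : ∃ e, h.tr e = 1 := by
  obtain ⟨x, hx⟩ : ∃ x, h.tr x ≠ 0 := by
    by_contra hall
    push Not at hall
    obtain ⟨x, y, hxy⟩ := h.nc
    refine hxy ?_
    have := h.anti x y
    rwa [h.iota_of_tr_zero (hall _), h.iota_of_tr_zero (hall _), h.iota_of_tr_zero (hall _)] at this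
  obtain ⟨m, hm, hmc⟩ := h.inv_central (h.tr_comm x) hx
  exact ⟨m * x, by rw [h.tr_smul hmc, (hmc _).eq, hm]⟩

theorem central_iff {l : E} : (∀ y, Commute l y) ↔ l ∈ h.tr.range := by
  refine ⟨fun hl => ?_, fun ⟨x, hx⟩ => hx ▸ h.tr_comm x⟩
  obtain ⟨e, he⟩ := h.exists_tr_one
  exact ⟨l * e, by rw [h.tr_smul hl, he, mul_one]⟩

theorem pair_sum {u w : E} (hu : h.tr u = 0) (hw : h.tr w = 0) : u * w + w * u = h.tr (u * w) := by
  rw [h.tr_apply, h.anti, h.iota_of_tr_zero hu, h.iota_of_tr_zero hw]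

theorem sq_comm {u : E} (hu : h.tr u = 0) (y : E) : Commute (u * u) y := by
  have := h.ncen u y
  rwa [h.iota_of_tr_zero hu] at this

/-- A hyperbolic pair of trace zero. -/
theorem exists_pair : ∃ x y, h.tr x = 0 ∧ h.tr y = 0 ∧ h.tr (x * y) = 1 := by
  suffices ∃ x y, h.tr x = 0 ∧ h.tr y = 0 ∧ h.tr (x * y) ≠ 0 by
    obtain ⟨x, y, hx, hy, hxy⟩ := this
    obtain ⟨m, hm, hmc⟩ := h.inv_central (h.tr_comm _) hxy
    exact ⟨m * x, y, by rw [h.tr_smul hmc, hx, mul_zero], hy,
      by rw [mul_assoc, h.tr_smul hmc, (hmc _).eq, hm]⟩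
  by_contra hall
  push Not at hall
  have hclosed : ∀ u w, h.tr u = 0 → h.tr w = 0 → h.tr (u * w) = 0 := hall
  obtain ⟨e, he⟩ := h.exists_tr_one
  -- every trace zero element is central plus an element of the nil ideal
  let J : AddSubgroup E :=
    { carrier := {u | (∀ x, h.tr (x * u) = 0) ∧ u * ι u = 0}
      zero_mem' := ⟨fun x => by rw [mul_zero, map_zero], zero_mul _⟩
      add_mem' := fun {u v} hu hv => ⟨fun x => by rw [mul_add, map_add, hu.1, hv.1, add_zero], by
        have h0 : h.tr v = 0 := by simpa using hv.1 1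
        have h1 : h.tr (u * ι v) = 0 := by rw [h.iota_of_tr_zero h0]; exact hv.1 u
        rw [map_add, add_mul, mul_add, mul_add, hu.2, hv.2, zero_add, add_zero]
        rwa [h.tr_apply, h.anti, h.invol] at h1⟩
      neg_mem' := fun {u} hu => ⟨fun x => by rw [mul_neg, map_neg, hu.1, neg_zero], by
        rw [map_neg, neg_mul_neg, hu.2]⟩ }
  have hJ : J = ⊥ := by
    refine (h.simple J fun x j hj => ⟨⟨fun z => by rw [← mul_assoc]; exact hj.1 _, ?_⟩,
      ⟨fun z => by rw [← mul_assoc, h.tr_mul_comm, ← mul_assoc]; exact hj.1 _, ?_⟩⟩).resolve_right fun htop => ?_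
    · rw [h.anti, mul_assoc, ← mul_assoc j, hj.2, zero_mul, mul_zero]
    · rw [h.anti, mul_assoc, ← mul_assoc x, ← mul_assoc j, ← (h.ncen x j).eq, mul_assoc, hj.2, mul_zero]
    · have h1 : (1 : E) ∈ J := htop ▸ trivial
      have hone : ι 1 = 1 := h.iota_central fun y => Commute.one_left y
      have := h1.2
      rw [hone, mul_one] at this
      obtain ⟨a, b, hab⟩ := h.nc
      exact hab (by rw [← one_mul (a * b), ← one_mul (b * a), this, zero_mul, zero_mul])
  have hdecomp : ∀ x, h.tr (x + h.tr x * e) = 0 := fun x => by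
    rw [map_add, h.tr_smul (h.tr_comm x), he, mul_one, h.add_self]
  have hWcen : ∀ w, h.tr w = 0 → ∀ y, Commute w y := by
    intro w hw
    set z := h.tr (e * w) with hz
    have hzc : ∀ y, Commute z y := h.tr_comm _
    set u := w + z with hu
    have hu0 : h.tr u = 0 := by rw [hu, map_add, hw, h.tr_central hzc, add_zero]
    have htu : ∀ x, h.tr (x * u) = 0 := by
      intro x
      have e1 : x = (x + h.tr x * e) + h.tr x * e := by rw [add_assoc, h.add_self, add_zero]
      rw [e1, add_mul, map_add, hclosed _ _ (hdecomp x) hu0, zero_add, mul_assoc, h.tr_smul (h.tr_comm x),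
        hu, mul_add, map_add, h.tr_smul' hzc, he, mul_one, ← hz, h.add_self, mul_zero]
    have hu2 : u * ι u = 0 := by
      rw [h.iota_of_tr_zero hu0]
      have := htu (e * u)
      rw [mul_assoc, ← (h.sq_comm hu0 e).eq, h.tr_smul (h.sq_comm hu0), he, mul_one] at this
      exact this
    have hmem : u ∈ J := ⟨htu, hu2⟩
    rw [hJ, AddSubgroup.mem_bot] at hmem
    rw [h.eq_of_add hmem]
    exact hzc
  obtain ⟨a, b, hab⟩ := h.nc
  refine hab ?_
  have ea : a = (a + h.tr a * e) + h.tr a * e := by rw [add_assoc, h.add_self, add_zero]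
  have eb : b = (b + h.tr b * e) + h.tr b * e := by rw [add_assoc, h.add_self, add_zero]
  rw [ea, eb]
  refine (((hWcen _ (hdecomp a) _)).add_left ?_).eq
  exact ((hWcen _ (hdecomp b) _).symm).add_right
    (((h.tr_comm a _).mul_left ((h.tr_comm b e).symm.mul_right (Commute.refl e))))

/-- The centre. -/
abbrev Z : AddSubgroup E := h.tr.range

/-- The elements of trace zero. -/
abbrev W : AddSubgroup E := h.tr.ker

theorem mem_W {x : E} : x ∈ h.W ↔ h.tr x = 0 := Iff.rfl

theorem Z_comm (l : h.Z) (y : E) : Commute (l : E) y := h.central_iff.mpr l.2 y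

theorem smul_mem_W {l w : E} (hl : ∀ y, Commute l y) (hw : w ∈ h.W) : l * w ∈ h.W := by
  rw [mem_W, h.tr_smul hl, h.mem_W.mp hw, mul_zero]

theorem orth_central {x y u : E} (hx : h.tr x = 0) (hy : h.tr y = 0) (hxy : h.tr (x * y) = 1)
    (hu : h.tr u = 0) (hux : h.tr (u * x) = 0) (huy : h.tr (u * y) = 0) : ∀ z, Commute u z := by
  have cux : u * x = x * u := by
    refine h.eq_of_add ?_
    rw [h.pair_sum hu hx, hux]
  have cuy : u * y = y * u := by
    refine h.eq_of_add ?_
    rw [h.pair_sum hu hy, huy]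
  have key : h.tr (u * x * y) = u := by
    rw [h.tr_apply, h.anti, h.anti, h.iota_of_tr_zero hu, h.iota_of_tr_zero hx, h.iota_of_tr_zero hy,
      ← cux, ← mul_assoc y u x, ← cuy, mul_assoc u y x, mul_assoc u x y, ← mul_add, h.pair_sum hx hy, hxy, mul_one]
  intro z
  rw [← key]
  exact h.tr_comm _ z

theorem card_W : Nat.card h.W = Nat.card h.Z ^ 3 := by
  obtain ⟨x, y, hx, hy, hxy⟩ := h.exists_pair
  let f : h.Z × h.Z × h.Z → h.W := fun a => ⟨(a.1 : E) + a.2.1 * x + a.2.2 * y, by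
    rw [mem_W, map_add, map_add, h.tr_smul (h.Z_comm _), h.tr_smul (h.Z_comm _), h.tr_central (h.Z_comm _),
      hx, hy, mul_zero, mul_zero, add_zero, add_zero]⟩
  have hyx : h.tr (y * x) = 1 := by rw [h.tr_mul_comm, hxy]
  have hxx : h.tr (x * x) = 0 := h.tr_central (h.sq_comm hx)
  have hyy : h.tr (y * y) = 0 := h.tr_central (h.sq_comm hy)
  have cx : ∀ a : h.Z × h.Z × h.Z, h.tr ((f a : E) * x) = a.2.2 := fun a => by
    show h.tr (((a.1 : E) + a.2.1 * x + a.2.2 * y) * x) = _
    rw [add_mul, add_mul, map_add, map_add, mul_assoc, mul_assoc, h.tr_smul (h.Z_comm _),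
      h.tr_smul (h.Z_comm _), h.tr_smul (h.Z_comm _), hx, hxx, hyx, mul_zero, mul_zero, mul_one, zero_add, zero_add]
  have cy : ∀ a : h.Z × h.Z × h.Z, h.tr ((f a : E) * y) = a.2.1 := fun a => by
    show h.tr (((a.1 : E) + a.2.1 * x + a.2.2 * y) * y) = _
    rw [add_mul, add_mul, map_add, map_add, mul_assoc, mul_assoc, h.tr_smul (h.Z_comm _),
      h.tr_smul (h.Z_comm _), h.tr_smul (h.Z_comm _), hy, hxy, hyy, mul_zero, mul_zero, mul_one, add_zero, zero_add]
  rw [← Nat.card_congr (Equiv.ofBijective f ⟨?_, ?_⟩), Nat.card_prod, Nat.card_prod, pow_succ, pow_two,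
    mul_assoc]
  · intro a b e
    have e2 : a.2.2 = b.2.2 := Subtype.ext (by rw [← cx a, ← cx b, e])
    have e1 : a.2.1 = b.2.1 := Subtype.ext (by rw [← cy a, ← cy b, e])
    refine Prod.ext (Subtype.ext ?_) (Prod.ext e1 e2)
    have e' := congrArg Subtype.val e
    simp only [f, e1, e2] at e'
    exact add_right_cancel (add_right_cancel e')
  · rintro ⟨w, hw⟩
    rw [mem_W] at hw
    set be := h.tr (w * y) with hbe
    set ga := h.tr (w * x) with hga
    set u := w + be * x + ga * y with hu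
    have hu0 : h.tr u = 0 := by
      rw [hu, map_add, map_add, h.tr_smul (h.tr_comm _), h.tr_smul (h.tr_comm _), hw, hx, hy, mul_zero,
        mul_zero, add_zero, add_zero]
    have hc := h.orth_central hx hy hxy hu0
      (by rw [hu, add_mul, add_mul, map_add, map_add, mul_assoc, mul_assoc, h.tr_smul (h.tr_comm _),
        h.tr_smul (h.tr_comm _), hxx, hyx, mul_zero, mul_one, add_zero, ← hga, h.add_self])
      (by rw [hu, add_mul, add_mul, map_add, map_add, mul_assoc, mul_assoc, h.tr_smul (h.tr_comm _),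
        h.tr_smul (h.tr_comm _), hxy, hyy, mul_one, mul_zero, add_zero, ← hbe, h.add_self])
    refine ⟨(⟨u, h.central_iff.mp hc⟩, ⟨be, ⟨_, rfl⟩⟩, ⟨ga, ⟨_, rfl⟩⟩), Subtype.ext ?_⟩
    show u + be * x + ga * y = w
    rw [hu]
    calc w + be * x + ga * y + be * x + ga * y = w + (be * x + be * x) + (ga * y + ga * y) := by abel
      _ = w := by rw [h.add_self, h.add_self, add_zero, add_zero]

theorem card_E : Nat.card E = Nat.card h.Z ^ 4 := by
  have := AddSubgroup.card_mul_index h.W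
  rw [AddSubgroup.index_ker, h.card_W] at this
  rw [← this]
  ring

theorem Z_le_W : h.Z ≤ h.W := fun l hl => h.mem_W.mpr (h.tr_central (h.central_iff.mpr hl))

theorem two_le_card : 2 ≤ Nat.card h.Z := by
  obtain ⟨e, he⟩ := h.exists_tr_one
  have : Nontrivial h.Z := ⟨⟨⟨1, e, he⟩, 0, fun h0 => by
    obtain ⟨a, b, hab⟩ := h.nc
    have h1 : (1 : E) = 0 := congrArg Subtype.val h0
    exact hab (by rw [← one_mul (a * b), ← one_mul (b * a), h1, zero_mul, zero_mul])⟩⟩
  exact Finite.one_lt_card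

/-- Quadratic groups of automorphisms are small. -/
theorem aut_bound {B : Type*} [Group B] [Finite B] (φ : B →* RingAut E)
    (hι : ∀ b x, φ b (ι x) = ι (φ b x)) (hZ : ∀ b x, φ b (h.tr x) = h.tr x)
    (hquad : ∀ b c x, φ b (φ c x + x) = φ c x + x)
    (hq : 4 ≤ Nat.card h.Z) (FA FB : AddSubgroup E)
    (hFA : ∀ x, x ∈ FA ↔ ι x = x ∧ ∀ b, φ b x = x) (hFB : ∀ x, x ∈ FB ↔ ∀ b, φ b x = x) :
    Nat.card φ.range * Nat.card h.Z ≤ FA.index ∧
      (Nat.card φ.range = 1 ∨ Nat.card φ.range < FB.index) := by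
  classical
  set q := Nat.card h.Z with hqdef
  have hq0 : 0 < q := Nat.card_pos
  have hE := h.card_E
  have hcomm : ∀ {l}, (∀ y, Commute l y) → ∀ b, φ b l = l := fun hl b => by
    obtain ⟨x, rfl⟩ := h.central_iff.mp hl
    exact hZ b x
  have hFAW : ∀ {x}, x ∈ FA ↔ x ∈ h.W ∧ ∀ b, φ b x = x := fun {x} => by
    rw [hFA, mem_W, h.tr_apply]
    constructor
    · rintro ⟨h1, h2⟩; exact ⟨by rw [h1, h.add_self], h2⟩
    · rintro ⟨h1, h2⟩; exact ⟨(h.eq_of_add h1).symm, h2⟩
  have hW_inv : ∀ b, ∀ w ∈ h.W, φ b w ∈ h.W := fun b w hw => by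
    rw [mem_W, h.tr_apply, ← hι, ← map_add, ← h.tr_apply, h.mem_W.mp hw, map_zero]
  have hdelta : ∀ b, ∀ w ∈ h.W, φ b w + w ∈ FA := fun b w hw =>
    hFAW.mpr ⟨add_mem (hW_inv b w hw) hw, fun c => hquad c b w⟩
  have hZFA : ∀ {l}, (∀ y, Commute l y) → l ∈ FA := fun hl =>
    hFAW.mpr ⟨h.Z_le_W (h.central_iff.mp hl), hcomm hl⟩
  have hsmul : ∀ {l x}, (∀ y, Commute l y) → x ∈ FA → l * x ∈ FA := fun hl hx =>
    hFAW.mpr ⟨h.smul_mem_W hl (hFAW.mp hx).1, fun b => by rw [map_mul, hcomm hl, (hFAW.mp hx).2]⟩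
  by_cases hW : h.W ≤ FA
  · -- the group acts trivially
    obtain ⟨x, y, hx, hy, hxy⟩ := h.exists_pair
    have htriv : ∀ b, φ b = 1 := fun b => RingEquiv.ext fun u => by
      have hu : u + h.tr u * (x * y) ∈ h.W := by
        rw [mem_W, map_add, h.tr_smul (h.tr_comm u), hxy, mul_one, h.add_self]
      have h1 := (hFAW.mp (hW hu)).2 b
      rw [map_add, map_mul, map_mul, hZ, (hFAW.mp (hW (h.mem_W.mpr hx))).2, (hFAW.mp (hW (h.mem_W.mpr hy))).2] at h1
      exact add_right_cancel h1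
    have hr : Nat.card φ.range = 1 := by
      rw [Subgroup.card_eq_one, MonoidHom.range_eq_bot_iff]
      exact MonoidHom.ext htriv
    refine ⟨?_, Or.inl hr⟩
    rw [hr, one_mul]
    have e := AddSubgroup.card_mul_index FA
    have hle : Nat.card FA ≤ q ^ 3 := h.card_W ▸ AddSubgroup.card_le_of_le fun u hu => (hFAW.mp hu).1
    by_contra hlt
    push Not at hlt
    rw [hE] at e
    have : Nat.card FA * FA.index < q ^ 3 * q :=
      Nat.mul_lt_mul_of_le_of_lt hle hlt (Nat.pow_pos hq0)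
    rw [e, ← pow_succ] at this
    exact lt_irrefl _ this
  obtain ⟨w, hw, hwFA⟩ := SetLike.not_le_iff_exists.mp hW
  have hnW : ∀ {u}, u ∈ h.W → ∀ y, Commute (u * u) y := fun hu => h.sq_comm (h.mem_W.mp hu)
  have hpair : ∀ {u v}, u ∈ h.W → v ∈ h.W → u * v + v * u = h.tr (u * v) := fun hu hv =>
    h.pair_sum (h.mem_W.mp hu) (h.mem_W.mp hv)
  -- a fixed trace zero element outside the centre
  obtain ⟨g, hgFA, hgZ⟩ : ∃ g ∈ FA, ¬ ∀ y, Commute g y := by
    by_contra hall
    push Not at hall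
    refine hwFA (hFAW.mpr ⟨hw, fun b => h.eq_of_add ?_⟩)
    have hd := hall _ (hdelta b w hw)
    obtain ⟨d, hd'⟩ : ∃ d, φ b w + w = d := ⟨_, rfl⟩
    rw [hd'] at hd ⊢
    have hd0 : φ b (w * w) = w * w := hcomm (hnW hw) b
    rw [map_mul, show φ b w = d + w by rw [← hd', add_assoc, h.add_self, add_zero]] at hd0
    have hdd : d * d = 0 := by
      have e : (d + w) * (d + w) = d * d + w * w + (d * w + d * w) := by
        calc (d + w) * (d + w) = d * d + w * w + (d * w + w * d) := by noncomm_ring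
          _ = _ := by rw [(hd w).eq]
      rw [e, h.add_self, add_zero, add_eq_right] at hd0
      exact hd0
    by_contra hne
    obtain ⟨m, hm, -⟩ := h.inv_central hd hne
    have : d = 0 := by rw [← mul_one d, ← hm, ← mul_assoc, hdd, zero_mul]
    exact hne this
  have hgW := (hFAW.mp hgFA).1
  let M : h.Z × h.Z × h.Z → h.W := fun a => ⟨(a.1 : E) + a.2.1 * g + a.2.2 * w,
    add_mem (add_mem (h.Z_le_W a.1.2) (h.smul_mem_W (h.Z_comm _) hgW)) (h.smul_mem_W (h.Z_comm _) hw)⟩
  let M0 : h.Z × h.Z → E := fun a => (a.1 : E) + a.2 * g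
  have hM0FA : ∀ a, M0 a ∈ FA := fun a => add_mem (hZFA (h.Z_comm _)) (hsmul (h.Z_comm _) hgFA)
  have hlast : ∀ (l u : E), (∀ y, Commute l y) → l * w + u = 0 → u ∈ FA → l = 0 := by
    intro l u hl he hu
    by_contra hl0
    obtain ⟨m, hm, hmc⟩ := h.inv_central hl hl0
    refine hwFA ?_
    have e : w = m * u := by
      rw [← h.eq_of_add he, ← mul_assoc, (hmc l).eq, hm, one_mul]
    exact e ▸ hsmul hmc hu
  have hM0inj : Function.Injective M0 := by
    intro a b e
    have e0 : ((a.1 : E) + b.1) + ((a.2 : E) + b.2) * g = 0 := by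
      calc _ = ((a.1 : E) + a.2 * g) + ((b.1 : E) + b.2 * g) := by rw [add_mul]; abel
        _ = 0 := by rw [show (a.1 : E) + a.2 * g = (b.1 : E) + b.2 * g from e, h.add_self]
    have e2 : (a.2 : E) + b.2 = 0 := by
      by_contra hne
      obtain ⟨m, hm, hmc⟩ := h.inv_central (fun y => (h.Z_comm a.2 y).add_left (h.Z_comm b.2 y)) hne
      refine hgZ ?_
      have eg : g = m * ((a.1 : E) + b.1) := by
        rw [h.eq_of_add e0, ← mul_assoc, (hmc _).eq, hm, one_mul]
      exact fun y => eg ▸ (hmc y).mul_left ((h.Z_comm a.1 y).add_left (h.Z_comm b.1 y))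
    rw [e2, zero_mul, add_zero] at e0
    exact Prod.ext (Subtype.ext (h.eq_of_add e0)) (Subtype.ext (h.eq_of_add e2))
  have hMinj : Function.Injective M := by
    intro a b e
    have e' : (a.1 : E) + a.2.1 * g + a.2.2 * w = (b.1 : E) + b.2.1 * g + b.2.2 * w := congrArg Subtype.val e
    have e0 : ((a.2.2 : E) + b.2.2) * w + (M0 (a.1, a.2.1) + M0 (b.1, b.2.1)) = 0 := by
      calc _ = ((a.1 : E) + a.2.1 * g + a.2.2 * w) + ((b.1 : E) + b.2.1 * g + b.2.2 * w) := by
            simp only [M0, add_mul]; abel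
        _ = 0 := by rw [e', h.add_self]
    have e3 := hlast _ _ (fun y => (h.Z_comm a.2.2 y).add_left (h.Z_comm b.2.2 y)) e0
      (add_mem (hM0FA _) (hM0FA _))
    rw [e3, zero_mul, zero_add] at e0
    have e12 := hM0inj (h.eq_of_add e0)
    simp only [Prod.mk.injEq] at e12
    exact Prod.ext e12.1 (Prod.ext e12.2 (Subtype.ext (h.eq_of_add e3)))
  have hMsurj : Function.Surjective M := (hMinj.bijective_of_nat_card_le (by
    rw [h.card_W, Nat.card_prod, Nat.card_prod, ← hqdef]; exact le_of_eq (by ring))).2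
  have hFAeq : ∀ u ∈ FA, ∃ a, M0 a = u := by
    intro u hu
    obtain ⟨a, ha⟩ := hMsurj ⟨u, (hFAW.mp hu).1⟩
    have ha' : (a.1 : E) + a.2.1 * g + a.2.2 * w = u := congrArg Subtype.val ha
    refine ⟨(a.1, a.2.1), ?_⟩
    have e3 := hlast (a.2.2 : E) (M0 (a.1, a.2.1) + u) (h.Z_comm _) (by
      calc (a.2.2 : E) * w + (M0 (a.1, a.2.1) + u) = ((a.1 : E) + a.2.1 * g + a.2.2 * w) + u := by
            simp only [M0]; abel
        _ = 0 := by rw [ha', h.add_self]) (add_mem (hM0FA _) hu)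
    rw [e3, zero_mul, add_zero] at ha'
    exact ha'
  have hcardFA : Nat.card FA = q ^ 2 := by
    rw [← Nat.card_congr (Equiv.ofBijective (fun a => (⟨M0 a, hM0FA a⟩ : FA))
      ⟨fun a b e => hM0inj (congrArg Subtype.val e),
        fun u => by obtain ⟨a, ha⟩ := hFAeq u u.2; exact ⟨a, Subtype.ext ha⟩⟩), Nat.card_prod, pow_two]
  set p := h.tr (w * g) with hp
  have hp0 : p ≠ 0 := by
    intro hp0
    refine hgZ ?_
    obtain ⟨x, y, hx, hy, hxy⟩ := h.exists_pair
    have horth : ∀ v ∈ h.W, h.tr (g * v) = 0 := by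
      intro v hv
      obtain ⟨a, ha⟩ := hMsurj ⟨v, hv⟩
      have ha' : (a.1 : E) + a.2.1 * g + a.2.2 * w = v := congrArg Subtype.val ha
      rw [h.tr_mul_comm, ← ha', add_mul, add_mul, map_add, map_add, mul_assoc, mul_assoc,
        h.tr_smul (h.Z_comm _), h.tr_smul (h.Z_comm _), h.tr_smul (h.Z_comm _), h.mem_W.mp hgW,
        h.tr_central (hnW hgW), ← hp, hp0, mul_zero, mul_zero, mul_zero, add_zero, add_zero]
    exact h.orth_central hx hy hxy (h.mem_W.mp hgW) (horth x hx) (horth y hy)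
  -- the coordinate of an automorphism
  have hcoord : ∀ ψ : φ.range, ∃ a : h.Z × h.Z, M0 a = (ψ : RingAut E) w + w := fun ψ => by
    obtain ⟨b, hb⟩ := ψ.2
    rw [← hb]
    exact hFAeq _ (hdelta b w hw)
  choose co hco using hcoord
  have hrel : ∀ ψ, ((co ψ).1 : E) * (co ψ).1 + (co ψ).2 * (co ψ).2 * (g * g) + (co ψ).2 * p = 0 := by
    intro ψ
    obtain ⟨b, hb⟩ := ψ.2
    have hd0 : φ b (w * w) = w * w := hcomm (hnW hw) b
    obtain ⟨d, hd'⟩ : ∃ d, φ b w + w = d := ⟨_, rfl⟩
    rw [map_mul, show φ b w = d + w by rw [← hd', add_assoc, h.add_self, add_zero]] at hd0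
    have hd : d = ((co ψ).1 : E) + (co ψ).2 * g := by rw [← hd', hb]; exact (hco ψ).symm
    set al := ((co ψ).1 : E)
    set be := ((co ψ).2 : E)
    have hal : ∀ y, Commute al y := h.Z_comm _
    have hbe : ∀ y, Commute be y := h.Z_comm _
    have e : (d + w) * (d + w) =
        al * al + be * be * (g * g) + be * (g * w + w * g) + w * w + (al * (be * g) + al * (be * g)) + (al * w + al * w) := by
      have e1 : be * g * (be * g) = be * be * (g * g) := by
        rw [mul_assoc, ← mul_assoc g be g, ← (hbe g).eq, mul_assoc, ← mul_assoc]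
      have e2 : w * (be * g) = be * (w * g) := by rw [← mul_assoc, ← (hbe w).eq, mul_assoc]
      rw [hd]
      calc (al + be * g + w) * (al + be * g + w) = al * al + be * g * (be * g) + (be * g * w + w * (be * g)) + w * w +
            (al * (be * g) + be * g * al) + (al * w + w * al) := by noncomm_ring
        _ = _ := by rw [e1, e2, mul_assoc be g w, ← mul_add, ← (hal (be * g)).eq, ← (hal w).eq]
    rw [e, h.add_self, h.add_self, add_zero, add_zero, hpair hgW hw, h.tr_mul_comm, ← hp, add_eq_right] at hd0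
    exact hd0
  have hext : ∀ ψ χ : φ.range, (ψ : RingAut E) w = (χ : RingAut E) w → ψ = χ := by
    intro ψ χ e
    obtain ⟨b, hb⟩ := ψ.2
    obtain ⟨c, hc⟩ := χ.2
    obtain ⟨x, y, hx, hy, hxy⟩ := h.exists_pair
    rw [← hb, ← hc] at e
    have hWeq : ∀ v ∈ h.W, φ b v = φ c v := by
      intro v hv
      obtain ⟨a, ha⟩ := hMsurj ⟨v, hv⟩
      have ha' : (a.1 : E) + a.2.1 * g + a.2.2 * w = v := congrArg Subtype.val ha
      rw [← ha', map_add, map_add, map_add, map_add, map_mul, map_mul, map_mul, map_mul, e,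
        hcomm (h.Z_comm _), hcomm (h.Z_comm _), hcomm (h.Z_comm _), hcomm (h.Z_comm _), hcomm (h.Z_comm _),
        hcomm (h.Z_comm _), (hFAW.mp hgFA).2, (hFAW.mp hgFA).2]
    refine Subtype.ext ?_
    rw [← hb, ← hc]
    refine RingEquiv.ext fun u => ?_
    have hu : u + h.tr u * (x * y) ∈ h.W := by
      rw [mem_W, map_add, h.tr_smul (h.tr_comm u), hxy, mul_one, h.add_self]
    have h1 := hWeq _ hu
    rw [map_add, map_add, map_mul, map_mul, map_mul, map_mul, hZ, hZ, hWeq x (h.mem_W.mpr hx),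
      hWeq y (h.mem_W.mpr hy)] at h1
    exact add_right_cancel h1
  have hinj : ∀ ψ χ, (co ψ).2 = (co χ).2 → ψ = χ := by
    intro ψ χ e
    have h1 := hrel ψ
    have h2 := hrel χ
    rw [e] at h1
    have e1 : ((co ψ).1 : E) * (co ψ).1 + (co χ).1 * (co χ).1 = 0 := by
      rw [add_assoc] at h1 h2
      rw [h.eq_of_add h1, h.eq_of_add h2, h.add_self]
    have ez : (co ψ).1 = (co χ).1 := by
      refine Subtype.ext (h.eq_of_add ?_)
      by_contra hne
      set d := ((co ψ).1 : E) + (co χ).1 with hd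
      have hdc : ∀ y, Commute d y := fun y => (h.Z_comm _ y).add_left (h.Z_comm _ y)
      obtain ⟨m, hm, -⟩ := h.inv_central hdc hne
      have hdd : d * d = 0 := by
        rw [hd, add_mul, mul_add, mul_add, ← (h.Z_comm (co ψ).1 ((co χ).1 : E)).eq]
        calc _ = ((co ψ).1 : E) * (co ψ).1 + (co χ).1 * (co χ).1 + (((co ψ).1 : E) * (co χ).1 + (co ψ).1 * (co χ).1) := by abel
          _ = 0 := by rw [h.add_self, e1, add_zero]
      exact hne (by rw [← mul_one d, ← hm, ← mul_assoc, hdd, zero_mul])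
    refine hext ψ χ (add_right_cancel (b := w) ?_)
    rw [← hco ψ, ← hco χ, show co ψ = co χ from Prod.ext ez e]
  have hrange : Nat.card φ.range ≤ q := Nat.card_le_card_of_injective (fun ψ => (co ψ).2) fun ψ χ => hinj ψ χ
  refine ⟨?_, Or.inr ?_⟩
  · have e := AddSubgroup.card_mul_index FA
    rw [hcardFA, hE, show q ^ 4 = q ^ 2 * (q * q) by ring] at e
    rw [Nat.eq_of_mul_eq_mul_left (Nat.pow_pos hq0) e]
    exact Nat.mul_le_mul_right _ hrange
  have hFAB : FA ≤ FB := fun u hu => (hFB u).mpr (hFAW.mp hu).2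
  have hW' : ∀ {u}, u ∈ FB → h.tr u = 0 → u ∈ FA := fun hu hu0 => hFAW.mpr ⟨h.mem_W.mpr hu0, (hFB _).mp hu⟩
  have eB := AddSubgroup.card_mul_index FB
  rw [hE] at eB
  by_cases ht : ∀ u ∈ FB, h.tr u = 0
  · have : FB = FA := le_antisymm (fun u hu => hW' hu (ht u hu)) hFAB
    rw [this, hcardFA, show q ^ 4 = q ^ 2 * (q * q) by ring] at eB
    rw [this, Nat.eq_of_mul_eq_mul_left (Nat.pow_pos hq0) eB]
    exact lt_of_le_of_lt hrange (lt_mul_self (by omega))
  push Not at ht
  obtain ⟨x0, hx0, hx00⟩ := ht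
  obtain ⟨m, hm, hmc⟩ := h.inv_central (h.tr_comm x0) hx00
  set x := m * x0 with hx
  have hxB : x ∈ FB := (hFB x).mpr fun b => by rw [hx, map_mul, hcomm hmc, (hFB x0).mp hx0]
  have hx1 : h.tr x = 1 := by rw [hx, h.tr_smul hmc, (hmc _).eq, hm]
  have hcardFB : Nat.card FB ≤ q ^ 3 := by
    have hf : ∀ u : FB, (u : E) + h.tr u * x ∈ FA := fun u => hW'
      ((hFB _).mpr fun b => by rw [map_add, map_mul, hZ, (hFB _).mp u.2, (hFB _).mp hxB])
      (by rw [map_add, h.tr_smul (h.tr_comm _), hx1, mul_one, h.add_self])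
    refine (Nat.card_le_card_of_injective (fun u : FB => ((⟨_, hf u⟩ : FA), (⟨h.tr u, _, rfl⟩ : h.Z))) ?_).trans
      (le_of_eq ?_)
    · intro u v e
      have e1 := congrArg (fun a : FA × h.Z => (a.1 : E)) e
      have e2 : h.tr (u : E) = h.tr v := congrArg (fun a : FA × h.Z => (a.2 : E)) e
      simp only at e1
      rw [e2] at e1
      exact Subtype.ext (add_right_cancel e1)
    · rw [Nat.card_prod, hcardFA, ← hqdef]; ring
  have hidx : q ≤ FB.index := by
    by_contra hlt
    push Not at hlt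
    have := Nat.mul_lt_mul_of_le_of_lt hcardFB hlt (Nat.pow_pos hq0)
    rw [eB, ← pow_succ] at this
    exact lt_irrefl _ this
  set s := h.tr (x * g) with hs
  have hs' : ∀ ψ, ((co ψ).1 : E) + (co ψ).2 * s = 0 := by
    intro ψ
    obtain ⟨b, hb⟩ := ψ.2
    have e := hZ b (x * w)
    rw [h.tr_apply, map_add, hι, ← h.tr_apply, map_mul, (hFB x).mp hxB] at e
    have hd : φ b w = M0 (co ψ) + w := by
      rw [hco, add_assoc, h.add_self, add_zero, ← hb]
    rw [hd, mul_add, map_add, ← h.tr_apply (x * w), add_eq_right] at e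
    simp only [M0] at e
    rw [mul_add, map_add, h.tr_smul' (h.Z_comm _), hx1, mul_one, ← mul_assoc, ← (h.Z_comm (co ψ).2 x).eq,
      mul_assoc, h.tr_smul (h.Z_comm _), ← hs] at e
    exact e
  set c := s * s + g * g with hc
  have hcc : ∀ y, Commute c y := fun y => ((h.tr_comm _ y).mul_left (h.tr_comm _ y)).add_left (hnW hgW y)
  have hroot : ∀ ψ, ((co ψ).2 : E) = 0 ∨ ((co ψ).2 : E) * c + p = 0 := by
    intro ψ
    by_cases h0 : ((co ψ).2 : E) = 0
    · exact Or.inl h0
    right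
    set be := ((co ψ).2 : E)
    have hal : ((co ψ).1 : E) = be * s := h.eq_of_add (hs' ψ)
    have hr := hrel ψ
    rw [hal] at hr
    obtain ⟨m', hm', hmc'⟩ := h.inv_central (h.Z_comm _) h0
    have e : be * (be * c + p) = 0 := by
      rw [← hr, hc]
      simp only [mul_add, mul_assoc]
      rw [← mul_assoc s be, ← (h.Z_comm (co ψ).2 s).eq, mul_assoc]
    calc be * c + p = (m' * be) * (be * c + p) := by rw [(hmc' be).eq, hm', one_mul]
      _ = 0 := by rw [mul_assoc, e, mul_zero]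
  have h2 : Nat.card φ.range ≤ 2 := by
    refine (Nat.card_le_card_of_injective (fun ψ => decide (((co ψ).2 : E) = 0)) ?_).trans (by simp)
    intro ψ χ e
    simp only [decide_eq_decide] at e
    refine hinj ψ χ (Subtype.ext ?_)
    rcases hroot ψ with h1 | h1
    · rw [h1, e.mp h1]
    rcases hroot χ with h2 | h2
    · rw [h2, e.mpr h2]
    by_cases hc0 : c = 0
    · rw [hc0, mul_zero, zero_add] at h1
      exact absurd h1 hp0
    obtain ⟨m', hm', -⟩ := h.inv_central hcc hc0
    have : ((co ψ).2 : E) * c = (co χ).2 * c := by rw [h.eq_of_add h1, h.eq_of_add h2]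
    rw [← mul_one ((co ψ).2 : E), ← hm', ← mul_assoc, this, mul_assoc, hm', mul_one]
  omega

end QAlg

end Cfsg.Agent.PGV
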