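import Cfsg.Agent.PGV.Conf
import Cfsg.Agent.PGV.QuadraticAlgebra
import Cfsg.Agent.PGV.Orbit
import Cfsg.Agent.S0144

/-!
# An irreducible module for a configuration in characteristic two

The ring spanned by the quasisimple group is four-dimensional over its centre.
-/

set_option autoImplicit false
set_option linter.unusedSectionVars false
set_option maxHeartbeats 1000000

namespace Cfsg.Agent.PGV

open Subgroup
open scoped commutatorElement

variable {Γ : Type*} [Group Γ] [Finite Γ] {U : Type*} [AddCommGroup U] [Finite U]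
  [DistribMulAction Γ U] {K B : Subgroup Γ} {a : Γ}

theorem addCard_le_mul_of_nat {q r f u n b : ℕ} (h1 : r * q * f ≤ u) (h2 : r * n = b) :
    b * q * f ≤ u * n := by
  subst h2
  calc r * n * q * f = r * q * f * n := by ring
    _ ≤ u * n := Nat.mul_le_mul_right n h1

theorem conf_inv (hc : Conf K B a) : a⁻¹ = a := inv_eq_of_mul_eq_one_right hc.inv

/-- A subgroup stable under the generators is stable under everything. -/
theorem stable_of_gens (hc : Conf K B a) (D : AddSubgroup U) (hK : ∀ k ∈ K, ∀ u ∈ D, k • u ∈ D)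
    (hB : ∀ b ∈ B, ∀ u ∈ D, b • u ∈ D) (ha : ∀ u ∈ D, a • u ∈ D) :
    ∀ g : Γ, ∀ u ∈ D, g • u ∈ D := by
  intro g
  have hg : g ∈ closure ((K : Set Γ) ∪ (B : Set Γ) ∪ {a}) := by rw [hc.gen]; trivial
  refine closure_induction'' (p := fun x _ => ∀ u ∈ D, x • u ∈ D) ?_ ?_ ?_ ?_ hg
  · rintro x ((hx | hx) | rfl)
    exacts [hK x hx, hB x hx, ha]
  · rintro x ((hx | hx) | rfl)
    · exact hK _ (inv_mem hx)
    · exact hB _ (inv_mem hx)
    · rw [conf_inv hc]; exact ha
  · intro u hu; rwa [one_smul]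
  · intro x y _ _ hx hy u hu
    rw [mul_smul]; exact hx _ (hy _ hu)

theorem trivial_of_fixed (hc : Conf K B a) (h : ∀ u : U, a • u = u) : ∀ k ∈ K, ∀ u : U, k • u = u := by
  have e : ∀ g ∈ K, ∀ u : U, (a * g * a⁻¹) • u = g • u := fun g _ u => by
    rw [conf_inv hc, mul_smul, mul_smul, h, h]
  intro k hk u
  refine perfect_comm_fix (Layer.qs_subgroup_perfect hc.qs) (Set.univ : Set U)
    (fun _ _ _ _ => trivial) (fun g hg l hl x _ => ?_) k hk u trivial
  rw [← e g hg (l • x), ← mul_smul, (hc.com g hg l hl).eq, mul_smul, e g hg]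

theorem small_solvable {G : Type*} [Group G] [Finite G] (h : Nat.card G ≤ 15) :
    Group.IsSolvable G := by
  have hpos : 0 < Nat.card G := Nat.card_pos
  obtain ⟨p, q, i, j, hp, hq, he⟩ : ∃ p q i j : ℕ, p.Prime ∧ q.Prime ∧ Nat.card G = p ^ i * q ^ j := by
    interval_cases hn : Nat.card G
    · exact ⟨2, 3, 0, 0, Nat.prime_two, Nat.prime_three, by norm_num⟩
    · exact ⟨2, 3, 1, 0, Nat.prime_two, Nat.prime_three, by norm_num⟩
    · exact ⟨2, 3, 0, 1, Nat.prime_two, Nat.prime_three, by norm_num⟩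
    · exact ⟨2, 3, 2, 0, Nat.prime_two, Nat.prime_three, by norm_num⟩
    · exact ⟨2, 5, 0, 1, Nat.prime_two, by norm_num, by norm_num⟩
    · exact ⟨2, 3, 1, 1, Nat.prime_two, Nat.prime_three, by norm_num⟩
    · exact ⟨2, 7, 0, 1, Nat.prime_two, by norm_num, by norm_num⟩
    · exact ⟨2, 3, 3, 0, Nat.prime_two, Nat.prime_three, by norm_num⟩
    · exact ⟨2, 3, 0, 2, Nat.prime_two, Nat.prime_three, by norm_num⟩
    · exact ⟨2, 5, 1, 1, Nat.prime_two, by norm_num, by norm_num⟩
    · exact ⟨2, 11, 0, 1, Nat.prime_two, by norm_num, by norm_num⟩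
    · exact ⟨2, 3, 2, 1, Nat.prime_two, Nat.prime_three, by norm_num⟩
    · exact ⟨2, 13, 0, 1, Nat.prime_two, by norm_num, by norm_num⟩
    · exact ⟨2, 7, 1, 1, Nat.prime_two, by norm_num, by norm_num⟩
    · exact ⟨3, 5, 1, 1, Nat.prime_three, by norm_num, by norm_num⟩
  exact Char.isSolvable_of_card_eq p q hp hq _ G rfl ⟨i, j, he⟩

/-- The bound on an irreducible module. -/
theorem bound_irreducible (hc : Conf K B a) (hq : Quad U K B a)
    (hirr : ∀ D : AddSubgroup U, (∀ g : Γ, ∀ u ∈ D, g • u ∈ D) → D = ⊥ ∨ D = ⊤) :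
    Bound U K B a := by
  classical
  have hP := Layer.qs_subgroup_perfect hc.qs
  by_cases htriv : ∀ k ∈ K, ∀ u : U, k • u = u
  · refine ⟨B, le_rfl, K, le_rfl, 0, 0, fun k hk x hx => mul_mem (mul_mem hk hx) (inv_mem hk),
      fun x hx u => by simpa using htriv x hx u, fun b hb k hk =>
      mul_mem hk (hc.nor b hb _ (inv_mem hk)), fun _ => rfl, ?_, ?_, fun _ => rfl⟩
    · rw [pow_zero, mul_one, mul_comm (Nat.card U)]
      exact Nat.mul_le_mul_left _ (Nat.card_le_card_of_injective _ Subtype.val_injective)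
    · rw [mul_comm (Nat.card U)]
      exact Nat.mul_le_mul_left _ (Nat.card_le_card_of_injective _ Subtype.val_injective)
  have hai := conf_inv hc
  have hneg : ∀ x : U, -x = x := fun x => neg_eq_of_add_eq_zero_left (hq.two x)
  have hsub : ∀ x y : U, x - y = x + y := fun x y => by rw [sub_eq_add_neg, hneg]
  obtain ⟨v0, hv0⟩ : ∃ v : U, a • v ≠ v := by
    by_contra hall
    push Not at hall
    exact htriv (trivial_of_fixed hc hall)
  obtain ⟨w, hw⟩ : ∃ w, w = a • v0 - v0 := ⟨_, rfl⟩
  have hw0 : w ≠ 0 := hw ▸ sub_ne_zero.mpr hv0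
  have haw : a • w = w := by
    rw [hw, smul_sub, ← mul_smul, hc.inv, one_smul, ← neg_sub, hneg]
  have hbw : ∀ b ∈ B, b • w = w := fun b hb => hw ▸ hq.ba b hb v0
  have hgw : ∀ g ∈ K, (a * g * a⁻¹) • w = g⁻¹ • w := fun g hg => by
    rw [eq_inv_smul_iff, ← mul_smul, hw, hq.theta g hg v0]
  let ρ : Γ →* AddMonoid.End U := DistribMulAction.toAddMonoidEnd Γ U
  have hρ : ∀ (g : Γ) (u : U), ρ g u = g • u := fun _ _ => rfl
  let E : Subring (AddMonoid.End U) := Subring.closure (ρ '' (K : Set Γ))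
  let of : ↥K → ↥E := fun g => ⟨ρ g, Subring.subset_closure ⟨g, g.2, rfl⟩⟩
  let app : ↥E → U → U := fun e u => (e : AddMonoid.End U) u
  have happ_add : ∀ (e : ↥E) (u v : U), app e (u + v) = app e u + app e v :=
    fun e u v => map_add _ u v
  have happ_mul : ∀ (e f : ↥E) (u : U), app (e * f) u = app e (app f u) := fun _ _ _ => rfl
  have happ_of : ∀ (g : ↥K) (u : U), app (of g) u = (g : Γ) • u := fun _ _ => rfl
  have happ_ext : ∀ e f : ↥E, (∀ u, app e u = app f u) → e = f :=
    fun e f h => Subtype.ext (AddMonoidHom.ext h)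
  have hspan : ∀ P : ↥E → Prop, (∀ g, P (of g)) → P 0 → (∀ e f, P e → P f → P (e + f)) →
      (∀ e, P e → P (-e)) → ∀ e, P e := by
    intro P hg h0 ha hn e
    have hmon : Submonoid.closure (ρ '' (K : Set Γ)) = K.toSubmonoid.map ρ := by
      rw [← Submonoid.closure_eq (K.toSubmonoid.map ρ)]
      rfl
    have he := Subring.mem_closure_iff.mp e.2
    rw [hmon] at he
    have : ∃ h : (e : AddMonoid.End U) ∈ E, P ⟨_, h⟩ := by
      refine AddSubgroup.closure_induction (p := fun x _ => ∃ h : x ∈ E, P ⟨x, h⟩) ?_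
        ⟨zero_mem _, h0⟩ ?_ ?_ he
      · rintro _ ⟨g, hgK, rfl⟩
        exact ⟨_, hg ⟨g, hgK⟩⟩
      · rintro x y _ _ ⟨hx, hPx⟩ ⟨hy, hPy⟩
        exact ⟨add_mem hx hy, ha _ _ hPx hPy⟩
      · rintro x _ ⟨hx, hPx⟩
        exact ⟨neg_mem hx, hn _ hPx⟩
    exact this.2
  have hEc : ∀ (e : ↥E), ∀ g ∈ K, ∀ u : U, app e ((a * g * a⁻¹) • u) = (a * g * a⁻¹) • app e u := by
    refine hspan _ ?_ ?_ ?_ ?_
    · intro k g hg u
      rw [happ_of, happ_of, ← mul_smul, ← (hc.com g hg k k.2).eq, mul_smul]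
    · intro g _ u; exact (smul_zero _).symm
    · intro e f he hf g hg u
      show app e _ + app f _ = _ • (app e u + app f u)
      rw [he g hg, hf g hg, smul_add]
    · intro e he g hg u
      show -app e _ = _ • -app e u
      rw [he g hg, smul_neg]
  let ev : ↥E →+ U :=
    { toFun := fun e => app e w
      map_zero' := rfl
      map_add' := fun _ _ => rfl }
  have hev : ∀ e, ev e = app e w := fun _ => rfl
  have hev_of : ∀ g : ↥K, ev (of g) = (g : Γ) • w := fun _ => rfl
  have hev_mul : ∀ e f, ev (e * f) = app e (ev f) := fun _ _ => rfl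
  have hev_inv : ∀ (e : ↥E) (g : ↥K), (a * g * a⁻¹) • ev e = ev (e * of g⁻¹) := by
    intro e g
    rw [hev, ← hEc e g g.2, hgw g g.2, hev_mul, hev_of]
    rfl
  have hev_a : ∀ e : ↥E, ∃ f, ev f = a • ev e := by
    refine hspan _ ?_ ⟨0, by simp⟩ ?_ ?_
    · intro g
      refine ⟨of g⁻¹, ?_⟩
      rw [hev_of, hev_of, InvMemClass.coe_inv, ← hgw g g.2, mul_smul, mul_smul,
        inv_smul_eq_iff.mpr haw.symm]
    · rintro e f ⟨e', he⟩ ⟨f', hf⟩
      exact ⟨e' + f', by rw [map_add, he, hf, map_add, smul_add]⟩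
    · rintro e ⟨e', he⟩
      exact ⟨-e', by rw [map_neg, he, map_neg, smul_neg]⟩
  have hconj : ∀ b ∈ B, ∀ e : ↥E, ∃ f : ↥E, (f : AddMonoid.End U) = ρ b * e * ρ b⁻¹ := by
    intro b hb
    refine hspan _ ?_ ⟨0, by simp⟩ ?_ ?_
    · intro g
      exact ⟨of ⟨b * g * b⁻¹, hc.nor b hb g g.2⟩, by
        show ρ (b * g * b⁻¹) = ρ b * ρ g * ρ b⁻¹
        rw [map_mul, map_mul]⟩
    · rintro e f ⟨e', he⟩ ⟨f', hf⟩
      exact ⟨e' + f', by rw [Subring.coe_add, he, hf, Subring.coe_add, mul_add, add_mul]⟩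
    · rintro e ⟨e', he⟩
      exact ⟨-e', by rw [Subring.coe_neg, he, Subring.coe_neg, mul_neg, neg_mul]⟩
  let φf : ↥B → ↥E → ↥E := fun b e => (hconj b b.2 e).choose
  have hφf : ∀ b e (u : U), app (φf b e) u = (b : Γ) • app e ((b : Γ)⁻¹ • u) := by
    intro b e u
    show ((hconj b b.2 e).choose : AddMonoid.End U) u = _
    rw [(hconj b b.2 e).choose_spec]
    rfl
  have hev_b : ∀ b : ↥B, ∀ e, ev (φf b e) = (b : Γ) • ev e := by
    intro b e
    rw [hev, hφf, inv_smul_eq_iff.mpr (hbw b b.2).symm, hev]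
  -- bijectivity
  have hD : ev.range = ⊤ := by
    refine (hirr ev.range (stable_of_gens hc _ ?_ ?_ ?_)).resolve_left ?_
    · rintro k hk _ ⟨e, rfl⟩
      exact ⟨of ⟨k, hk⟩ * e, rfl⟩
    · rintro b hb _ ⟨e, rfl⟩
      exact ⟨φf ⟨b, hb⟩ e, hev_b _ e⟩
    · rintro _ ⟨e, rfl⟩
      exact hev_a e
    · intro h
      have : ev 1 ∈ ev.range := ⟨1, rfl⟩
      rw [h, AddSubgroup.mem_bot] at this
      exact hw0 this
  have hsurj : Function.Surjective ev := AddMonoidHom.range_eq_top.mp hD
  have hinj : Function.Injective ev := by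
    rw [injective_iff_map_eq_zero]
    intro e he
    refine happ_ext e 0 fun u => ?_
    obtain ⟨x, rfl⟩ := hsurj u
    show app e (ev x) = 0
    refine hspan (fun x => app e (ev x) = 0) ?_ (map_zero (e : AddMonoid.End U)) ?_ ?_ x
    · intro g
      have h1 : (g : Γ) • w = (a * (g : Γ)⁻¹ * a⁻¹) • w := by
        rw [hgw _ (inv_mem g.2), inv_inv]
      rw [hev_of, h1, hEc e _ (inv_mem g.2)]
      show _ • ev e = 0
      rw [he, smul_zero]
    · intro x y hx hy; rw [map_add, happ_add, hx, hy, add_zero]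
    · intro x hx
      show (e : AddMonoid.End U) (ev (-x)) = 0
      rw [map_neg, map_neg]
      show -app e (ev x) = 0
      rw [hx, neg_zero]
  have hbij : Function.Bijective ev := ⟨hinj, hsurj⟩
  let evE : ↥E ≃+ U := AddEquiv.ofBijective ev hbij
  have : Finite ↥E := Finite.of_injective ev hinj
  let ι : ↥E →+ ↥E :=
    evE.symm.toAddMonoidHom.comp ((DistribSMul.toAddMonoidHom U a).comp ev)
  have hι : ∀ e, ev (ι e) = a • ev e := fun e => evE.apply_symm_apply _
  have hι_of : ∀ g : ↥K, ι (of g) = of g⁻¹ := by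
    intro g
    apply hinj
    rw [hι, hev_of, hev_of, InvMemClass.coe_inv, ← hgw g g.2, mul_smul, mul_smul,
      inv_smul_eq_iff.mpr haw.symm]
  have hanti : ∀ x y, ι (x * y) = ι y * ι x := by
    refine hspan _ ?_ ?_ ?_ ?_
    · intro g y
      apply hinj
      rw [hι_of, ← hev_inv (ι y) g, hι, hι, hev_mul, happ_of]
      simp only [mul_smul, inv_smul_smul]
    · intro y; simp
    · intro x x' hx hx' y; rw [add_mul, map_add, hx, hx', map_add, mul_add]
    · intro x hx y; rw [neg_mul, map_neg, hx, map_neg, mul_neg]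
  have hinvol : ∀ x, ι (ι x) = x := fun x => hinj (by rw [hι, hι, ← mul_smul, hc.inv, one_smul])
  have hone2 : ∀ x : ↥E, x + x = 0 := fun x => hinj (by rw [map_add, hq.two, map_zero])
  have hofmul : ∀ g l : ↥K, of (g * l) = of g * of l := fun g l =>
    Subtype.ext (map_mul ρ (g : Γ) l)
  have hofone : of 1 = 1 := Subtype.ext (map_one ρ)
  -- the trace is central
  have hcenK : ∀ x (l : ↥K), Commute (x + ι x) (of l) := by
    intro x l
    have h1 : ev (x + ι x) = a • ev x - ev x := by rw [map_add, hι, hsub, add_comm]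
    have h2 := hq.theta l l.2 (ev x)
    rw [← h1, mul_smul, hev_inv] at h2
    have h3 : of l * ((x + ι x) * of l⁻¹) = x + ι x := hinj (by rw [hev_mul, happ_of, h2])
    show (x + ι x) * of l = of l * (x + ι x)
    conv_lhs => rw [← h3]
    rw [mul_assoc, mul_assoc, ← hofmul, inv_mul_cancel, hofone, mul_one]
  have hcen : ∀ x y, Commute (x + ι x) y := fun x =>
    hspan _ (hcenK x) (Commute.zero_right _) (fun e f => Commute.add_right) fun e => Commute.neg_right
  have hncen : ∀ x y, Commute (x * ι x) y := by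
    refine hspan _ ?_ ?_ ?_ ?_
    · intro g y
      rw [hι_of, ← hofmul, mul_inv_cancel, hofone]
      exact Commute.one_left y
    · intro y; rw [zero_mul]; exact Commute.zero_left y
    · intro x x' hx hx' y
      have e : (x + x') * ι (x + x') = x * ι x + x' * ι x' + (x * ι x' + ι (x * ι x')) := by
        rw [map_add, hanti, hinvol, mul_add, add_mul, add_mul]
        abel
      rw [e]
      exact ((hx y).add_left (hx' y)).add_left (hcen _ y)
    · intro x hx y; rw [map_neg, neg_mul_neg]; exact hx y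
  have hnc : ∃ x y : ↥E, x * y ≠ y * x := by
    by_contra hall
    push Not at hall
    refine htriv fun k hk u => ?_
    refine perfect_comm_fix hP (Set.univ : Set U) (fun _ _ _ _ => trivial)
      (fun g hg l hl x _ => ?_) k hk u trivial
    obtain ⟨e, rfl⟩ := hsurj x
    have h := congrArg ev (congrArg (· * e) (hall (of ⟨g, hg⟩) (of ⟨l, hl⟩)))
    simpa [mul_assoc, hev_mul, happ_of] using h
  have hKfix : ∀ y : U, (∀ g ∈ K, g • y = y ∧ (a * g * a⁻¹) • y = y) → y = 0 := by
    intro y hy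
    let D : AddSubgroup U := fix U K ⊓ fix U (K.map (MulAut.conj a).toMonoidHom)
    have hmem : ∀ u, u ∈ D ↔ ∀ g ∈ K, g • u = u ∧ (a * g * a⁻¹) • u = u := by
      intro u
      simp only [D, AddSubgroup.mem_inf, mem_fix]
      refine ⟨fun h g hg => ⟨h.1 g hg, h.2 _ ⟨g, hg, rfl⟩⟩, fun h => ⟨fun g hg => (h g hg).1, ?_⟩⟩
      rintro _ ⟨g, hg, rfl⟩
      exact (h g hg).2
    have hst : ∀ g : Γ, ∀ u ∈ D, g • u ∈ D := by
      refine stable_of_gens hc D ?_ ?_ ?_
      · intro k hk u hu
        rw [((hmem u).mp hu k hk).1]; exact hu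
      · intro b hb u hu
        rw [hmem] at hu ⊢
        intro g hg
        have hg' : b⁻¹ * g * b ∈ K := by simpa using nor_inv (hc.nor b hb) g hg
        obtain ⟨h1, h2⟩ := hu _ hg'
        constructor
        · calc g • b • u = b • (b⁻¹ * g * b) • u := by simp [mul_smul]
            _ = b • u := by rw [h1]
        · have e : a * g * a⁻¹ * b = b * (a * (b⁻¹ * g * b) * a⁻¹) := by
            calc a * g * a⁻¹ * b = a * g * (a⁻¹ * b) := by group
              _ = a * g * (b * a⁻¹) := by rw [((hc.commA b hb).inv_left).eq]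
              _ = (a * b) * (b⁻¹ * g * b) * a⁻¹ := by group
              _ = (b * a) * (b⁻¹ * g * b) * a⁻¹ := by rw [(hc.commA b hb).eq]
              _ = _ := by group
          rw [← mul_smul, e, mul_smul, h2]
      · intro u hu
        rw [hmem] at hu ⊢
        intro g hg
        constructor
        · calc g • a • u = a • (a * g * a⁻¹) • u := by simp [hai, ← mul_smul, ← mul_assoc, hc.inv]
            _ = a • u := by rw [(hu g hg).2]
        · calc (a * g * a⁻¹) • a • u = a • g • u := by simp [mul_smul]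
            _ = a • u := by rw [(hu g hg).1]
    rcases hirr D hst with h | h
    · have h2 := (hmem y).mpr hy
      rwa [h, AddSubgroup.mem_bot] at h2
    · exact absurd (fun k hk u => ((hmem u).mp (h ▸ trivial) k hk).1) htriv
  have hsimple : ∀ J : AddSubgroup ↥E, (∀ x, ∀ j ∈ J, x * j ∈ J ∧ j * x ∈ J) →
      J = ⊥ ∨ J = ⊤ := by
    intro J hJ
    have hzinv : ∀ z : ↥E, (∀ y, Commute z y) → ι z = z → (∀ b, φf b z = z) → z ≠ 0 →
        ∀ J : AddSubgroup ↥E, (∀ x, ∀ j ∈ J, x * j ∈ J ∧ j * x ∈ J) → z ∈ J → J = ⊤ := by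
      intro z hz hιz hφz hz0 J hJ hzJ
      let D : AddSubgroup U := (⊤ : AddSubgroup ↥E).map (ev.comp (AddMonoidHom.mulLeft z))
      have hD : D = ⊤ := by
        refine (hirr D (stable_of_gens hc D ?_ ?_ ?_)).resolve_left ?_
        · rintro k hk _ ⟨e, -, rfl⟩
          refine ⟨of ⟨k, hk⟩ * e, trivial, ?_⟩
          show ev (z * (of ⟨k, hk⟩ * e)) = k • ev (z * e)
          rw [← mul_assoc, (hz _).eq, mul_assoc]
          rfl
        · rintro b hb _ ⟨e, -, rfl⟩
          refine ⟨φf ⟨b, hb⟩ e, trivial, ?_⟩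
          show ev (z * φf ⟨b, hb⟩ e) = b • ev (z * e)
          rw [← hev_b ⟨b, hb⟩]
          congr 1
          refine happ_ext _ _ fun u => ?_
          rw [happ_mul, hφf, hφf, happ_mul]
          have h := hφf ⟨b, hb⟩ z (b • app e (b⁻¹ • u))
          rw [hφz] at h
          rw [h, inv_smul_smul]
        · rintro _ ⟨e, -, rfl⟩
          refine ⟨ι e, trivial, ?_⟩
          show ev (z * ι e) = a • ev (z * e)
          rw [← hι, hanti, hιz, (hz _).eq]
        · intro h
          have : ev (z * 1) ∈ D := ⟨1, trivial, rfl⟩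
          rw [h, AddSubgroup.mem_bot, mul_one] at this
          exact hz0 (hinj (by rw [this, map_zero]))
      rw [eq_top_iff]
      rintro x -
      obtain ⟨e, -, he⟩ : ev x ∈ D := hD ▸ trivial
      have : z * e = x := hinj he
      rw [← this, (hz e).eq]
      exact (hJ e z hzJ).1
    have hφt : ∀ x b, φf b (x + ι x) = x + ι x := by
      intro x b
      refine hinj ?_
      rw [hev_b, map_add, hι, add_comm, ← hsub]
      exact hq.ba b b.2 _
    have hιt : ∀ x, ι (x + ι x) = x + ι x := fun x => by rw [map_add, hinvol, add_comm]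
    have hnil : ∀ J : AddSubgroup ↥E, (∀ x, ∀ j ∈ J, x * j ∈ J ∧ j * x ∈ J) →
        (∀ j ∈ J, ι j ∈ J) → J = ⊥ ∨ J = ⊤ := by
      intro J hJ hιJ
      by_cases ht : ∀ j ∈ J, j + ι j = 0
      · left
        rw [AddSubgroup.eq_bot_iff_forall]
        intro j hj
        have hfix : ∀ j ∈ J, ι j = j := fun j hj => by
          rw [eq_neg_of_add_eq_zero_right (ht j hj)]
          exact neg_eq_of_add_eq_zero_left (hone2 j)
        have h1 : ∀ x, x * j = j * ι x := fun x => by
          rw [← hfix _ (hJ x j hj).1, hanti, hfix j hj]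
        have h2 : ∀ x y, j * (x * y) = j * (y * x) := fun x y => by
          have e : ∀ x y, j * (ι y * ι x) = j * (ι x * ι y) := fun x y => by
            rw [← hanti, ← h1, mul_assoc, h1 y, ← mul_assoc, h1, mul_assoc]
          simpa [hinvol] using e (ι y) (ι x)
        have h3 : ∀ g : ↥K, j * of g = j := by
          haveI := hc.qs.1
          let S : Subgroup ↥K :=
            { carrier := {g | j * of g = j}
              one_mem' := by show j * of 1 = j; rw [hofone, mul_one]
              mul_mem' := fun {g l} hg hl => by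
                show j * of (g * l) = j
                rw [hofmul, ← mul_assoc, hg, hl]
              inv_mem' := fun {g} hg => by
                show j * of g⁻¹ = j
                conv_lhs => rw [← hg]
                rw [mul_assoc, ← hofmul, mul_inv_cancel, hofone, mul_one] }
          have hle : (⊤ : Subgroup ↥K) ≤ S := by
            rw [← hc.qs.1.commutator_eq_top, _root_.commutator_def, Subgroup.commutator_le]
            intro g _ l _
            show j * of (g * l * g⁻¹ * l⁻¹) = j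
            rw [mul_assoc (g * l), hofmul, hofmul g l, ← mul_assoc, h2, ← hofmul, mul_assoc,
              ← hofmul]
            simp [mul_assoc, hofone]
          exact fun g => hle (Subgroup.mem_top g)
        refine hinj ?_
        rw [map_zero]
        refine hKfix _ fun g hg => ⟨?_, ?_⟩
        · calc g • ev j = ev (of ⟨g, hg⟩ * j) := by rw [hev_mul, happ_of]
            _ = ev j := by rw [h1, hι_of, h3]
        · rw [hev_inv j ⟨g, hg⟩, h3]
      · right
        push Not at ht
        obtain ⟨j, hj, hj0⟩ := ht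
        exact hzinv _ (hcen j) (hιt j) (hφt j) hj0 J hJ (add_mem hj (hιJ j hj))
    let J0 : AddSubgroup ↥E := J ⊓ J.comap ι
    have hJ0 : ∀ x, ∀ j ∈ J0, x * j ∈ J0 ∧ j * x ∈ J0 := fun x j hj =>
      ⟨⟨(hJ x j hj.1).1, show ι (x * j) ∈ J by rw [hanti]; exact (hJ (ι x) _ hj.2).2⟩,
        ⟨(hJ x j hj.1).2, show ι (j * x) ∈ J by rw [hanti]; exact (hJ (ι x) _ hj.2).1⟩⟩
    rcases hnil J0 hJ0 (fun j hj => ⟨hj.2, show ι (ι j) ∈ J by rw [hinvol]; exact hj.1⟩) with
      hb | ht
    swap
    · exact Or.inr (top_le_iff.mp (ht ▸ inf_le_left))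
    have hcJ : ∀ j ∈ J, ∀ x, Commute j x := by
      intro j hj x
      have h1 := (hcen j x).eq
      rw [add_mul, mul_add] at h1
      have e : j * x - x * j = x * ι j - ι j * x := by linear_combination (norm := abel) h1
      have h2 : j * x - x * j ∈ J0 := by
        refine AddSubgroup.mem_inf.mpr ⟨sub_mem (hJ x j hj).2 (hJ x j hj).1, ?_⟩
        show ι (j * x - x * j) ∈ J
        rw [e, map_sub, hanti, hanti, hinvol]
        exact sub_mem (hJ (ι x) j hj).2 (hJ (ι x) j hj).1
      rw [hb, AddSubgroup.mem_bot, sub_eq_zero] at h2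
      exact h2
    let J1 : AddSubgroup ↥E := J ⊔ J.map ι
    have hJ1 : ∀ x, ∀ j ∈ J1, x * j ∈ J1 ∧ j * x ∈ J1 := by
      intro x j hj
      obtain ⟨j1, h1, _, ⟨j2, h2, rfl⟩, rfl⟩ := AddSubgroup.mem_sup.mp hj
      rw [mul_add, add_mul]
      refine ⟨add_mem (AddSubgroup.mem_sup_left (hJ x j1 h1).1) (AddSubgroup.mem_sup_right
        ⟨j2 * ι x, (hJ (ι x) j2 h2).2, ?_⟩),
        add_mem (AddSubgroup.mem_sup_left (hJ x j1 h1).2) (AddSubgroup.mem_sup_right
        ⟨ι x * j2, (hJ (ι x) j2 h2).1, ?_⟩)⟩ <;> rw [hanti, hinvol]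
    rcases hnil J1 hJ1 (fun j hj => by
      obtain ⟨j1, h1, _, ⟨j2, h2, rfl⟩, rfl⟩ := AddSubgroup.mem_sup.mp hj
      rw [map_add, hinvol, add_comm]
      exact add_mem (AddSubgroup.mem_sup_left h2) (AddSubgroup.mem_sup_right ⟨j1, h1, rfl⟩)) with
      hb1 | ht1
    · exact Or.inl (le_bot_iff.mp (hb1 ▸ le_sup_left))
    · exfalso
      obtain ⟨x, y, hxy⟩ := hnc
      obtain ⟨j1, h1, _, ⟨j2, h2, rfl⟩, rfl⟩ := AddSubgroup.mem_sup.mp (ht1 ▸ trivial : x ∈ J1)
      refine hxy (((hcJ j1 h1 y).add_left ?_).eq)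
      show ι j2 * y = y * ι j2
      rw [← hinvol y, ← hanti, ← hanti, (hcJ j2 h2 (ι y)).eq]
  let φ : ↥B →* RingAut ↥E :=
    { toFun := fun b =>
        { toFun := φf b
          invFun := φf b⁻¹
          left_inv := fun e => happ_ext _ _ fun u => by
            simp [hφf, inv_smul_smul]
          right_inv := fun e => happ_ext _ _ fun u => by
            simp [hφf, smul_inv_smul]
          map_mul' := fun e f => happ_ext _ _ fun u => by
            simp [hφf, happ_mul, inv_smul_smul]
          map_add' := fun e f => happ_ext _ _ fun u => by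
            simp only [hφf]
            show _ = app (φf b e) u + app (φf b f) u
            simp only [hφf]
            exact smul_add _ _ _ }
      map_one' := RingEquiv.ext fun e => happ_ext _ _ fun u => by
        show app (φf 1 e) u = app e u
        simp [hφf]
      map_mul' := fun b c => RingEquiv.ext fun e => happ_ext _ _ fun u => by
        show app (φf (b * c) e) u = app (φf b (φf c e)) u
        simp [hφf, mul_smul] }
  have hφ : ∀ b e, ev (φ b e) = (b : Γ) • ev e := hev_b
  have hQ : QAlg ι :=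
    { two := hone2 1
      nc := hnc
      simple := hsimple
      anti := hanti
      invol := hinvol
      cen := hcen
      ncen := hncen }
  have hι' : ∀ b x, φ b (ι x) = ι (φ b x) := fun b x => hinj (by
    rw [hφ, hι, hι, hφ, ← mul_smul, ← mul_smul, (hc.commA b b.2).eq])
  have hZ : ∀ b x, φ b (hQ.tr x) = hQ.tr x := fun b x => hinj (by
    rw [hφ, hQ.tr_apply, map_add, hι, add_comm, ← hsub]
    exact hq.ba b b.2 _)
  have hquad : ∀ b c x, φ b (φ c x + x) = φ c x + x := fun b c x => hinj (by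
    rw [hφ, map_add, hφ, ← hsub]
    exact hq.bb b b.2 c c.2 _)
  have hq4 : 4 ≤ Nat.card hQ.Z := by
    have h2 := hQ.two_le_card
    by_contra h4
    push Not at h4
    have h3 : Nat.card hQ.Z ≠ 3 := by
      intro h3
      haveI : Nontrivial hQ.Z := Finite.one_lt_card_iff_nontrivial.mp (by omega)
      obtain ⟨x, hx⟩ := exists_ne (0 : hQ.Z)
      have e : addOrderOf x = 2 :=
        addOrderOf_eq_prime (by rw [two_nsmul]; exact Subtype.ext (hone2 _)) hx
      have := addOrderOf_dvd_natCard x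
      rw [e, h3] at this
      omega
    have hcard : Nat.card ↥E = 16 := by rw [hQ.card_E, show Nat.card hQ.Z = 2 by omega]; rfl
    let ofU : ↥K →* (↥E)ˣ :=
      { toFun := fun g => ⟨of g, of g⁻¹, by rw [← hofmul, mul_inv_cancel, hofone],
          by rw [← hofmul, inv_mul_cancel, hofone]⟩
        map_one' := Units.ext hofone
        map_mul' := fun g l => Units.ext (hofmul g l) }
    haveI : Nontrivial ofU.range := by
      rw [Subgroup.nontrivial_iff_ne_bot]
      intro h
      refine htriv fun k hk u => ?_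
      have h1 : of ⟨k, hk⟩ = 1 := by
        have h' : ofU ⟨k, hk⟩ ∈ ofU.range := ⟨_, rfl⟩
        rw [h, Subgroup.mem_bot] at h'
        exact congrArg Units.val h'
      rw [← happ_of ⟨k, hk⟩ u, h1]
      rfl
    haveI := hc.qs.1
    haveI : Group.IsPerfect ofU.range :=
      Group.IsPerfect.ofSurjective ofU.rangeRestrict_surjective
    refine Group.IsPerfect.not_isSolvable ofU.range (small_solvable ?_)
    have hlt : Nat.card (↥E)ˣ < Nat.card ↥E := by
      refine lt_of_le_of_ne (Nat.card_le_card_of_injective _ Units.val_injective) fun he => ?_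
      obtain ⟨u, hu⟩ := ((Nat.bijective_iff_injective_and_card _).mpr ⟨Units.val_injective, he⟩).2 0
      have := u.mul_inv
      rw [hu, zero_mul] at this
      exact hw0 (by have := congrArg ev this; rwa [map_zero, eq_comm] at this)
    have := Subgroup.card_le_card_group ofU.range
    omega
  let FA : AddSubgroup ↥E := (fix U (B ⊔ zpowers a)).comap ev
  let FB : AddSubgroup ↥E := (fix U B).comap ev
  obtain ⟨hA, hB⟩ := hQ.aut_bound φ hι' hZ hquad hq4 FA FB (fun x => by
      show ev x ∈ fix U _ ↔ _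
      rw [mem_fix_sup_zpowers]
      refine ⟨fun h => ⟨hinj (by rw [hι, h.2]), fun b => hinj (by rw [hφ, h.1 b b.2])⟩,
        fun h => ⟨fun b hb => ?_, by rw [← hι, h.1]⟩⟩
      rw [← hφ ⟨b, hb⟩, h.2])
    (fun x => by
      show ev x ∈ fix U _ ↔ _
      refine ⟨fun h b => hinj (by rw [hφ, h b b.2]), fun h b hb => ?_⟩
      rw [← hφ ⟨b, hb⟩, h])
  have eA : FA.index = (fix U (B ⊔ zpowers a)).index :=
    AddSubgroup.index_comap_of_surjective _ hsurj
  have eB : FB.index = (fix U B).index := AddSubgroup.index_comap_of_surjective _ hsurj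
  have iA := (fix U (B ⊔ zpowers a)).card_mul_index
  have iB := (fix U B).card_mul_index
  have hker : Nat.card φ.range * Nat.card φ.ker = Nat.card B := by
    rw [← Nat.card_congr (QuotientGroup.quotientKerEquivRange φ).toEquiv,
      ← Subgroup.card_eq_card_quotient_mul_card_subgroup]
  have hNcard : Nat.card (φ.ker.map B.subtype) = Nat.card φ.ker :=
    Subgroup.card_map_of_injective B.subtype_injective
  refine ⟨φ.ker.map B.subtype, map_subtype_le _, K ⊓ (⨅ u : U, MulAction.stabilizer Γ u), inf_le_left,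
    1, 0, ?_, ?_, ?_, fun h => absurd h one_ne_zero, ?_, ?_⟩
  · intro k hk x hx
    refine Subgroup.mem_inf.mpr ⟨mul_mem (mul_mem hk hx.1) (inv_mem hk), Subgroup.mem_iInf.mpr fun u => ?_⟩
    rw [MulAction.mem_stabilizer_iff, mul_smul, mul_smul,
      MulAction.mem_stabilizer_iff.mp (Subgroup.mem_iInf.mp hx.2 _), smul_inv_smul]
  · intro x hx u
    simpa using Subgroup.mem_iInf.mp hx.2 u
  · rintro b ⟨b, hb, rfl⟩ k hk
    refine Subgroup.mem_inf.mpr ⟨mul_mem hk (hc.nor b b.2 _ (inv_mem hk)), Subgroup.mem_iInf.mpr fun u => ?_⟩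
    rw [MulAction.mem_stabilizer_iff]
    have h1 : φf b (of ⟨k, hk⟩⁻¹) = of ⟨k, hk⟩⁻¹ := by
      have h := congrArg (fun e : RingAut ↥E => e (of ⟨k, hk⟩⁻¹)) (MonoidHom.mem_ker.mp hb)
      exact h
    have h := hφf b (of ⟨k, hk⟩⁻¹) u
    rw [h1, happ_of, happ_of] at h
    simp only [InvMemClass.coe_inv] at h
    show (k * ((b : Γ) * k⁻¹ * (b : Γ)⁻¹)) • u = u
    rw [mul_smul, mul_smul, mul_smul, ← h, smul_inv_smul]
  · rw [hNcard, pow_one]
    refine le_trans ?_ (addCard_le_mul_of_nat
      (q := Nat.card hQ.Z) (f := Nat.card (fix U (B ⊔ zpowers a))) ?_ hker)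
    · exact Nat.mul_le_mul_right _ (Nat.mul_le_mul_left _ hq4)
    · rw [← iA, mul_comm (Nat.card (fix U (B ⊔ zpowers a))), ← eA]
      exact Nat.mul_le_mul_right _ hA
  · rw [hNcard]
    rcases hB with h | h
    · rw [h, one_mul] at hker
      rw [hker, mul_comm (Nat.card U)]
      refine ⟨Nat.mul_le_mul_left _ (Nat.card_le_card_of_injective _ Subtype.val_injective),
        fun _ => ?_⟩
      rw [Subgroup.eq_top_of_card_eq _ hker, ← MonoidHom.range_eq_map, Subgroup.range_subtype]
    · rw [eB] at h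
      have hlt : Nat.card B * Nat.card (fix U B) < Nat.card U * Nat.card φ.ker := by
        calc _ = Nat.card φ.range * Nat.card (fix U B) * Nat.card φ.ker := by rw [← hker]; ring
          _ < (fix U B).index * Nat.card (fix U B) * Nat.card φ.ker :=
            Nat.mul_lt_mul_of_pos_right (Nat.mul_lt_mul_of_pos_right h Nat.card_pos) Nat.card_pos
          _ = _ := by rw [← iB]; ring
      exact ⟨hlt.le, fun e => absurd e hlt.ne⟩

end Cfsg.Agent.PGV
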