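import Cfsg.Agent.PGV.Factor
import Cfsg.Agent.S0606

/-!
# Counting along a composition series
-/

set_option autoImplicit false
set_option linter.unusedSectionVars false
set_option maxHeartbeats 1000000

namespace Cfsg.Agent.PGV

open Subgroup

universe u v

variable {Γ : Type v} [Group Γ] [Finite Γ] {K B : Subgroup Γ} {a : Γ}

/-- The action on an invariant subgroup. -/
@[implicit_reducible]
def subAction {U : Type u} [AddCommGroup U] [DistribMulAction Γ U] (D : AddSubgroup U)
    (hD : ∀ g : Γ, ∀ u ∈ D, g • u ∈ D) : DistribMulAction Γ D where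
  smul g x := ⟨g • (x : U), hD g x x.2⟩
  one_smul x := Subtype.ext (one_smul Γ (x : U))
  mul_smul g l x := Subtype.ext (mul_smul g l (x : U))
  smul_zero g := Subtype.ext (smul_zero g)
  smul_add g x y := Subtype.ext (smul_add g (x : U) (y : U))

/-- The action on the quotient by an invariant subgroup. -/
@[implicit_reducible]
def quotAction {U : Type u} [AddCommGroup U] [DistribMulAction Γ U] (D : AddSubgroup U)
    (hD : ∀ g : Γ, ∀ u ∈ D, g • u ∈ D) : DistribMulAction Γ (U ⧸ D) where
  smul g := QuotientAddGroup.map D D (DistribSMul.toAddMonoidHom U g) fun u hu => hD g u hu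
  one_smul x := QuotientAddGroup.induction_on x fun u =>
    congrArg QuotientAddGroup.mk (one_smul Γ u)
  mul_smul g l x := QuotientAddGroup.induction_on x fun u =>
    congrArg QuotientAddGroup.mk (mul_smul g l u)
  smul_zero g := map_zero (QuotientAddGroup.map D D (DistribSMul.toAddMonoidHom U g) _)
  smul_add g x y := map_add (QuotientAddGroup.map D D (DistribSMul.toAddMonoidHom U g) _) x y

theorem filtration (hc : Conf K B a) : ∀ (n : ℕ) (U : Type u) [AddCommGroup U] [Finite U]
    [DistribMulAction Γ U], Nat.card U ≤ n → Quad U K B a → Bound U K B a := by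
  intro n
  induction n with
  | zero =>
    intro U _ _ _ hn
    have := Nat.card_pos (α := U)
    omega
  | succ n ih =>
    intro U _ _ _ hn hq
    by_cases hirr : ∀ D : AddSubgroup U, (∀ g : Γ, ∀ u ∈ D, g • u ∈ D) → D = ⊥ ∨ D = ⊤
    · exact bound_irreducible hc hq hirr
    push Not at hirr
    obtain ⟨D, hD, hDb, hDt⟩ := hirr
    letI := subAction D hD
    letI := quotAction D hD
    have hsD : ∀ (g : Γ) (x : D), ((g • x : D) : U) = g • (x : U) := fun _ _ => rfl
    have hsQ : ∀ (g : Γ) (u : U), g • (u : U ⧸ D) = ((g • u : U) : U ⧸ D) := fun _ _ => rfl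
    have hcard : Nat.card U = Nat.card (U ⧸ D) * Nat.card D :=
      AddSubgroup.card_eq_card_quotient_mul_card_addSubgroup D
    have hqD : Quad D K B a :=
      { two := fun x => Subtype.ext (hq.two x)
        bb := fun b hb c hc u => Subtype.ext (hq.bb b hb c hc u)
        ba := fun b hb u => Subtype.ext (hq.ba b hb u)
        theta := fun k hk u => Subtype.ext (hq.theta k hk u) }
    have hqQ : Quad (U ⧸ D) K B a :=
      { two := fun x => QuotientAddGroup.induction_on x fun u =>
          congrArg (QuotientAddGroup.mk' D) (hq.two u)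
        bb := fun b hb c hc x => QuotientAddGroup.induction_on x fun u =>
          congrArg (QuotientAddGroup.mk' D) (hq.bb b hb c hc u)
        ba := fun b hb x => QuotientAddGroup.induction_on x fun u =>
          congrArg (QuotientAddGroup.mk' D) (hq.ba b hb u)
        theta := fun k hk x => QuotientAddGroup.induction_on x fun u =>
          congrArg (QuotientAddGroup.mk' D) (hq.theta k hk u) }
    haveI : Nontrivial D := (AddSubgroup.nontrivial_iff_ne_bot D).mpr hDb
    haveI : Nontrivial (U ⧸ D) := QuotientAddGroup.nontrivial_iff.mpr hDt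
    have h1 : 1 < Nat.card D := Finite.one_lt_card
    have h2 : 1 < Nat.card (U ⧸ D) := Finite.one_lt_card
    have hlt1 : Nat.card D < Nat.card U := by
      rw [hcard]; exact lt_mul_of_one_lt_left (by omega) h2
    have hlt2 : Nat.card (U ⧸ D) < Nat.card U := by
      rw [hcard]; exact lt_mul_of_one_lt_right (by omega) h1
    obtain ⟨N1, hN1, M1, hM1, t1, m1, hn1, hp1, hk1, ht1, hA1, hB1, he1⟩ :=
      ih D (by omega) hqD
    obtain ⟨N2, hN2, M2, hM2, t2, m2, hn2, hp2, hk2, ht2, hA2, hB2, he2⟩ :=
      ih (U ⧸ D) (by omega) hqQ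
    have hfix : ∀ S : Subgroup Γ,
        Nat.card (fix U S) ≤ Nat.card (fix D S) * Nat.card (fix (U ⧸ D) S) := by
      intro S
      let f : fix U S →+ U ⧸ D := (QuotientAddGroup.mk' D).comp (fix U S).subtype
      have e := AddSubgroup.card_eq_card_quotient_mul_card_addSubgroup f.ker
      rw [Nat.card_congr (QuotientAddGroup.quotientKerEquivRange f).toEquiv] at e
      rw [e, mul_comm]
      refine Nat.mul_le_mul ?_ (AddSubgroup.card_le_of_le ?_)
      · refine Nat.card_le_card_of_injective
          (fun x : f.ker => (⟨⟨((x : fix U S) : U),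
            (QuotientAddGroup.eq_zero_iff _).mp x.2⟩, fun g hg => Subtype.ext ((x : fix U S).2 g hg)⟩ :
            fix D S)) fun x y hxy => ?_
        exact Subtype.ext (Subtype.ext (congrArg (fun z : fix D S => ((z : D) : U)) hxy))
      · rintro _ ⟨x, rfl⟩ g hg
        exact congrArg (QuotientAddGroup.mk' D) (x.2 g hg)
    have hNN : Nat.card N1 * Nat.card N2 ≤ Nat.card B * Nat.card (N1 ⊓ N2 : Subgroup Γ) := by
      rw [← Cfsg.Agent.S0606.card_sup_mul_card_inf_of_le_normalizer (H := N1) (N := N2)
        (le_trans (fun x hx => mem_centralizer_iff.mpr fun y hy => (hc.comm y (hN2 hy) x (hN1 hx)).eq)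
          (centralizer_le_normalizer _))]
      exact Nat.mul_le_mul_right _ (Subgroup.card_le_of_le (sup_le hN1 hN2))
    have hBp : 0 < Nat.card B := Nat.card_pos
    refine ⟨N1 ⊓ N2, inf_le_left.trans hN1, M1 ⊓ M2, inf_le_left.trans hM1, t1 + t2,
      max m1 m2 + 1, fun k hk x hx => Subgroup.mem_inf.mpr ⟨hn1 k hk x hx.1, hn2 k hk x hx.2⟩, ?_,
      fun b hb k hk => Subgroup.mem_inf.mpr ⟨hk1 b hb.1 k hk, hk2 b hb.2 k hk⟩, ?_, ?_, ?_, ?_⟩
    · intro x hx u
      obtain ⟨y, hy⟩ : ∃ y, y = x ^ 2 ^ max m1 m2 := ⟨_, rfl⟩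
      have hle : ∀ {M : Subgroup Γ} {W : Type u} [AddCommGroup W] [DistribMulAction Γ W] {m : ℕ},
          (∀ x ∈ M, ∀ u : W, x ^ 2 ^ m • u = u) → x ∈ M → ∀ k, m ≤ k → ∀ u : W,
          x ^ 2 ^ k • u = u := by
        intro M W _ _ m h hxM k hk u
        rw [← Nat.sub_add_cancel hk, pow_add, pow_mul]
        exact h _ (pow_mem hxM _) u
      have hyD : ∀ z ∈ D, y • z = z := fun z hz =>
        hy ▸ congrArg Subtype.val (hle hp1 hx.1 _ (le_max_left m1 m2) (⟨z, hz⟩ : D))
      have hyQ : y • u - u ∈ D := by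
        have := hle hp2 hx.2 _ (le_max_right m1 m2) (u : U ⧸ D)
        rw [hsQ, ← hy] at this
        exact (QuotientAddGroup.eq_iff_sub_mem).mp this
      have h := pow_smul_of_fixed (hyD _ hyQ) 2
      rw [two_nsmul, hq.two, add_zero, hy, ← pow_mul, ← pow_succ] at h
      exact h
    · intro h0
      rw [ht1 (by omega), ht2 (by omega), inf_idem]
    · set f := Nat.card (fix U (B ⊔ zpowers a))
      refine Nat.le_of_mul_le_mul_left ?_ hBp
      calc Nat.card B * (Nat.card B * 4 ^ (t1 + t2) * f)
          ≤ Nat.card B * (Nat.card B * 4 ^ (t1 + t2) *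
              (Nat.card (fix D (B ⊔ zpowers a)) * Nat.card (fix (U ⧸ D) (B ⊔ zpowers a)))) :=
            Nat.mul_le_mul_left _ (Nat.mul_le_mul_left _ (hfix _))
        _ = (Nat.card B * 4 ^ t1 * Nat.card (fix D (B ⊔ zpowers a))) *
              (Nat.card B * 4 ^ t2 * Nat.card (fix (U ⧸ D) (B ⊔ zpowers a))) := by
            rw [pow_add]; ring
        _ ≤ (Nat.card D * Nat.card N1) * (Nat.card (U ⧸ D) * Nat.card N2) := Nat.mul_le_mul hA1 hA2
        _ = Nat.card U * (Nat.card N1 * Nat.card N2) := by rw [hcard]; ring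
        _ ≤ Nat.card U * (Nat.card B * Nat.card (N1 ⊓ N2 : Subgroup Γ)) :=
            Nat.mul_le_mul_left _ hNN
        _ = _ := by ring
    · refine Nat.le_of_mul_le_mul_left ?_ hBp
      calc Nat.card B * (Nat.card B * Nat.card (fix U B))
          ≤ Nat.card B * (Nat.card B * (Nat.card (fix D B) * Nat.card (fix (U ⧸ D) B))) :=
            Nat.mul_le_mul_left _ (Nat.mul_le_mul_left _ (hfix _))
        _ = (Nat.card B * Nat.card (fix D B)) * (Nat.card B * Nat.card (fix (U ⧸ D) B)) := by ring
        _ ≤ (Nat.card D * Nat.card N1) * (Nat.card (U ⧸ D) * Nat.card N2) := Nat.mul_le_mul hB1 hB2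
        _ = Nat.card U * (Nat.card N1 * Nat.card N2) := by rw [hcard]; ring
        _ ≤ Nat.card U * (Nat.card B * Nat.card (N1 ⊓ N2 : Subgroup Γ)) :=
            Nat.mul_le_mul_left _ hNN
        _ = _ := by ring
    · intro heq
      have h3 : (Nat.card B * Nat.card (fix D B)) * (Nat.card B * Nat.card (fix (U ⧸ D) B)) ≥
          (Nat.card D * Nat.card N1) * (Nat.card (U ⧸ D) * Nat.card N2) := by
        calc (Nat.card D * Nat.card N1) * (Nat.card (U ⧸ D) * Nat.card N2)
            = Nat.card U * (Nat.card N1 * Nat.card N2) := by rw [hcard]; ring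
          _ ≤ Nat.card U * (Nat.card B * Nat.card (N1 ⊓ N2 : Subgroup Γ)) :=
              Nat.mul_le_mul_left _ hNN
          _ = Nat.card B * (Nat.card B * Nat.card (fix U B)) := by rw [heq]; ring
          _ ≤ Nat.card B * (Nat.card B * (Nat.card (fix D B) * Nat.card (fix (U ⧸ D) B))) :=
              Nat.mul_le_mul_left _ (Nat.mul_le_mul_left _ (hfix _))
          _ = _ := by ring
      have hx : 0 < Nat.card B * Nat.card (fix D B) := Nat.mul_pos hBp Nat.card_pos
      have hy : 0 < Nat.card (U ⧸ D) * Nat.card N2 := Nat.mul_pos Nat.card_pos Nat.card_pos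
      have hx' : 0 < Nat.card B * Nat.card (fix (U ⧸ D) B) := Nat.mul_pos hBp Nat.card_pos
      have e1 : N1 = B := he1 (le_antisymm hB1 (by
        by_contra hlt
        push Not at hlt
        exact absurd h3 (Nat.not_le.mpr (Nat.mul_lt_mul_of_lt_of_le hlt hB2 hy))))
      have e2 : N2 = B := he2 (le_antisymm hB2 (by
        by_contra hlt
        push Not at hlt
        exact absurd h3 (Nat.not_le.mpr (Nat.mul_lt_mul_of_le_of_lt hB1 hlt
          (Nat.mul_pos Nat.card_pos Nat.card_pos)))))
      rw [e1, e2, inf_idem]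

end Cfsg.Agent.PGV
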