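import Cfsg.Agent.PGV.Basic

/-!
# Quadratic elements and translates of a quasisimple group: odd characteristic
-/

set_option autoImplicit false
set_option linter.unusedSectionVars false
set_option maxHeartbeats 400000

namespace Cfsg.Agent.PGV

open Subgroup

variable {Γ : Type*} [Group Γ] [Finite Γ] {V : Type*} [AddCommGroup V] [DistribMulAction Γ V]
  [FaithfulSMul Γ V] {p : ℕ} [Fact p.Prime] {K : Subgroup Γ}

theorem two_cancel (hodd : p ≠ 2) (hp : ∀ v : V, p • v = 0) {x : V} (h : x + x = 0) : x = 0 := by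
  obtain ⟨m, hm⟩ := ((Fact.out : p.Prime).odd_of_ne_two hodd)
  have := hp x
  rwa [hm, succ_nsmul, mul_comm, mul_nsmul, two_nsmul, ← nsmul_add, h, nsmul_zero, zero_add] at this

theorem quad_conj {a : Γ} (hq : ∀ v : V, a • (a • v - v) = a • v - v) (k : Γ) (v : V) :
    (k * a * k⁻¹) • ((k * a * k⁻¹) • v - v) = (k * a * k⁻¹) • v - v := by
  have e : (k * a * k⁻¹) • v - v = k • (a • k⁻¹ • v - k⁻¹ • v) := by
    rw [smul_sub, mul_smul, mul_smul, smul_inv_smul]
  rw [e, ← mul_smul, inv_mul_cancel_right, mul_smul, hq]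

/-- A quadratic element cannot move a quasisimple group to a commuting translate. -/
theorem odd_case_one (hodd : p ≠ 2) (hp : ∀ v : V, p • v = 0) (hK : Cfsg.IsQuasisimple K) {a : Γ}
    (hq : ∀ v : V, a • (a • v - v) = a • v - v) (hC : Com a K) : False := by
  refine qs_not_pow (p := p) hK fun k hk => ⟨1, fun l hl => ?_⟩
  obtain ⟨k1, hk1⟩ : ∃ x, x = a * k * a⁻¹ := ⟨_, rfl⟩
  obtain ⟨c, hc⟩ : ∃ x, x = k * (a * k⁻¹ * a⁻¹) := ⟨_, rfl⟩
  obtain ⟨c1, hc1⟩ : ∃ x, x = a * c * a⁻¹ := ⟨_, rfl⟩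
  have hkk : ∀ g ∈ K, Commute k1 g := fun g hg => hk1 ▸ hC k hk g hg
  have hm0 : Commute k1 c := by
    rw [hc, show a * k⁻¹ * a⁻¹ = k1⁻¹ by rw [hk1]; group]
    exact (hkk k hk).mul_right (Commute.refl k1).inv_right
  have hm1 : Commute k1 c1 := by
    have h2 : Commute k1 (a * k1 * a⁻¹) := by
      have := (hC k hk k hk)
      rw [← hk1] at this
      have h3 : Commute (a * k1 * a⁻¹) (a * k * a⁻¹) := this.map (MulAut.conj a).toMonoidHom
      rw [← hk1] at h3
      exact h3.symm
    have e : c1 = k1 * (a * k1 * a⁻¹)⁻¹ := by rw [hc1, hc, hk1]; group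
    rw [e]
    exact (Commute.refl k1).mul_right h2.inv_right
  have hca : k * a * k⁻¹ = c * a := by rw [hc]; group
  have hR : ∀ v : V, c • c1 • (a • v + a • v - v) - c • a • v = c • a • v - v := by
    intro v
    have h := quad_conj hq k v
    rw [hca, smul_sub, ← mul_smul, show c * a * (c * a) = c * c1 * (a * a) by rw [hc1]; group,
      mul_smul (c * c1), mul_smul c c1, mul_smul a a, mul_smul c a] at h
    have h2 := hq v
    rw [smul_sub, sub_eq_iff_eq_add] at h2
    rwa [h2, show a • v - v + a • v = a • v + a • v - v by abel] at h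
  have hz : ∀ y : V, c1 • (c1 • y - y) = c1 • y - y := by
    intro y
    have hR1 := hR (a⁻¹ • y)
    have hR2 := congrArg (fun x => k1 • x) (hR (k1⁻¹ • a⁻¹ • y))
    simp only [smul_sub, smul_add] at hR2
    have hav : k1 • a • k1⁻¹ • a⁻¹ • y = c1 • y := by
      simp only [← mul_smul]
      congr 1
      rw [hc1, hc, hk1]; group
    have sw : ∀ u : V, k1 • c • u = c • k1 • u := fun u => by
      rw [← mul_smul, hm0.eq, mul_smul]
    have sw1 : ∀ u : V, k1 • c1 • u = c1 • k1 • u := fun u => by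
      rw [← mul_smul, hm1.eq, mul_smul]
    simp only [sw, sw1, hav, smul_inv_smul] at hR2
    simp only [smul_inv_smul, smul_sub, smul_add] at hR1
    have hd : (c • (c1 • c1 • y - c1 • y - (c1 • y - y))) +
        (c • (c1 • c1 • y - c1 • y - (c1 • y - y))) = 0 := by
      simp only [smul_sub]
      linear_combination (norm := abel) hR2 - hR1
    have := two_cancel hodd hp hd
    rw [smul_eq_zero_iff_eq, sub_eq_zero] at this
    rw [smul_sub]
    exact this
  have hpow : c1 ^ p = 1 := eq_of_smul_eq_smul fun v : V => by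
    rw [one_smul, pow_smul_of_fixed (hz v), hp, add_zero]
  have h2 : Commute k1 (a * k1 * a⁻¹) := by
    have h := hm1
    have e : a * k1 * a⁻¹ = c1⁻¹ * k1 := by simp [hc1, hc, hk1, mul_assoc]
    rw [e]
    exact h.inv_right.mul_right (Commute.refl k1)
  have e : c1 = k1 * (a * k1 * a⁻¹)⁻¹ := by rw [hc1, hc, hk1]; group
  rw [e, h2.inv_right.mul_pow, inv_pow, mul_inv_eq_one, conj_pow] at hpow
  have h3 : k ^ p = a * k ^ p * a⁻¹ := by
    have h4 : a * k ^ p * a⁻¹ = a * (a * k ^ p * a⁻¹) * a⁻¹ := by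
      rw [hk1, conj_pow] at hpow
      exact hpow
    have := congrArg (fun x => a⁻¹ * x * a) h4
    simpa [mul_assoc] using this
  rw [pow_one, h3]
  exact hC _ (pow_mem hk p) l hl

/-- Two commuting groups both moved by a quadratic element act with product zero. -/
theorem pair_zero (hodd : p ≠ 2) (hp : ∀ v : V, p • v = 0) {b : Γ}
    (hq : ∀ v : V, b • (b • v - v) = b • v - v) {L : Subgroup Γ} (hK : Cfsg.IsQuasisimple K)
    (hL : Cfsg.IsQuasisimple L) (hcom : ∀ k ∈ K, ∀ l ∈ L, Commute k l) (hbK : Nor b K)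
    (hbL : Nor b L) (hneK : ¬ ∀ k ∈ K, Commute b k) (hneL : ¬ ∀ l ∈ L, Commute b l) :
    ∀ k ∈ K, ∀ l ∈ L, ∀ v : V, l • (k • v - v) = k • v - v := by
  have step : ∀ k ∈ K, ∀ l ∈ L, ∀ u : V,
      (b * (k * (b * k⁻¹ * b⁻¹)) * b⁻¹) • ((l * (b * l⁻¹ * b⁻¹)) • u - u) =
        (l * (b * l⁻¹ * b⁻¹)) • u - u := by
    intro k hk l hl u
    obtain ⟨c, hc⟩ : ∃ x, x = k * (b * k⁻¹ * b⁻¹) := ⟨_, rfl⟩
    obtain ⟨c', hc'⟩ : ∃ x, x = b * c * b⁻¹ := ⟨_, rfl⟩
    obtain ⟨d, hd⟩ : ∃ x, x = l * (b * l⁻¹ * b⁻¹) := ⟨_, rfl⟩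
    rw [← hc, ← hc', ← hd]
    have hcK : c ∈ K := hc ▸ mul_mem hk (hbK _ (inv_mem hk))
    have hc'K : c' ∈ K := hc' ▸ hbK c hcK
    have hcb : k * b * k⁻¹ = c * b := by rw [hc]; group
    have hR : ∀ v : V, c • c' • (b • v + b • v - v) - c • b • v = c • b • v - v := by
      intro v
      have h := quad_conj hq k v
      rw [hcb, smul_sub, ← mul_smul, show c * b * (c * b) = c * c' * (b * b) by rw [hc']; group,
        mul_smul (c * c'), mul_smul c c', mul_smul b b, mul_smul c b] at h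
      have h2 := hq v
      rw [smul_sub, sub_eq_iff_eq_add] at h2
      rwa [h2, show b • v - v + b • v = b • v + b • v - v by abel] at h
    have hR1 := hR (b⁻¹ • u)
    have hR2 := congrArg (fun x => l • x) (hR (l⁻¹ • b⁻¹ • u))
    simp only [smul_sub, smul_add] at hR2
    have hav : l • b • l⁻¹ • b⁻¹ • u = d • u := by
      simp only [← mul_smul]
      congr 1
      rw [hd]; group
    have sw : ∀ g ∈ K, ∀ w : V, l • g • w = g • l • w := fun g hg w => by
      rw [← mul_smul, ← (hcom g hg l hl).eq, mul_smul]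
    simp only [sw c hcK, sw c' hc'K, hav, smul_inv_smul] at hR2
    simp only [smul_inv_smul, smul_sub, smul_add] at hR1
    have h0 : (c • (c' • d • u - c' • u - (d • u - u))) +
        (c • (c' • d • u - c' • u - (d • u - u))) = 0 := by
      simp only [smul_sub]
      linear_combination (norm := abel) hR2 - hR1
    have := two_cancel hodd hp h0
    rw [smul_eq_zero_iff_eq, sub_eq_zero] at this
    rw [smul_sub]
    exact this
  let S : Γ → Subgroup Γ := fun d => ⨅ u : V, MulAction.stabilizer Γ (d • u - u)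
  have hS : ∀ {d g : Γ}, g ∈ S d ↔ ∀ u : V, g • (d • u - u) = d • u - u := by
    simp [S, Subgroup.mem_iInf, MulAction.mem_stabilizer_iff]
  have h1 : ∀ l ∈ L, K ≤ S (l * (b * l⁻¹ * b⁻¹)) := by
    intro l hl
    refine exists_mem_commutator_ne hK hbK hneK _ fun k hk => hS.mpr fun u => ?_
    have h := step (b⁻¹ * k * b) (by simpa using nor_inv hbK k hk) l hl u
    have e : b * (b⁻¹ * k * b * (b * (b⁻¹ * k * b)⁻¹ * b⁻¹)) * b⁻¹ =
        k * (b * k⁻¹ * b⁻¹) := by group
    rwa [e] at h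
  intro k hk l hl v
  have h2 : L ≤ S k := by
    refine exists_mem_commutator_ne hL hbL hneL _ fun m hm => hS.mpr fun u => ?_
    have h := hS.mp (h1 m hm hk) u
    have hdL : m * (b * m⁻¹ * b⁻¹) ∈ L := mul_mem hm (hbL _ (inv_mem hm))
    rw [smul_sub, ← mul_smul, (hcom k hk _ hdL).eq, mul_smul] at h
    rw [smul_sub]
    linear_combination (norm := abel) h
  exact hS.mp (h2 hl) v

theorem map_conj_isQuasisimple (hK : Cfsg.IsQuasisimple K) (g : Γ) :
    Cfsg.IsQuasisimple (K.map (MulAut.conj g).toMonoidHom) :=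
  Layer.isQuasisimple_congr (Subgroup.equivMapOfInjective K _ (MulAut.conj g).injective) hK

/-- The second case: `b` normalises `K` and fixes the displacements of `a`. -/
theorem odd_case_two (hodd : p ≠ 2) (hp : ∀ v : V, p • v = 0) (hK : Cfsg.IsQuasisimple K)
    {a b : Γ} (hap : a ^ p = 1) (hab : Commute a b)
    (hq : ∀ v : V, b • (b • v - v) = b • v - v) (hba : ∀ v : V, b • (a • v - v) = a • v - v)
    (hbK : Nor b K) (hne : ¬ ∀ k ∈ K, Commute b k)
    (hC : ∀ j : ℕ, 0 < j → j < p → Com (a ^ j) K) : False := by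
  have hp2 : 2 ≤ p := (Fact.out : p.Prime).two_le
  let T : ℕ → Γ → Γ := fun j k => a ^ j * k * (a ^ j)⁻¹
  have hT : ∀ i j, i < j → j < p → ∀ k ∈ K, ∀ l ∈ K, Commute (T j k) (T i l) := by
    intro i j hij hj k hk l hl
    have h : Commute (a ^ i * T (j - i) k * (a ^ i)⁻¹) (T i l) :=
      (hC (j - i) (by omega) (by omega) k hk l hl).map (MulAut.conj (a ^ i)).toMonoidHom
    have e : a ^ i * T (j - i) k * (a ^ i)⁻¹ = T j k := by
      simp only [T]
      rw [← mul_assoc (a ^ i), ← mul_assoc (a ^ i), ← pow_add, Nat.add_sub_cancel' hij.le,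
        mul_assoc (a ^ j * k), ← mul_inv_rev, ← pow_add, Nat.add_sub_cancel' hij.le]
    rwa [e] at h
  let θ : ℕ → Γ → Γ := fun n k => (k * a) ^ n * (a ^ n)⁻¹
  have hθs : ∀ n k, θ (n + 1) k = θ n k * T n k := by
    intro n k
    show (k * a) ^ (n + 1) * (a ^ (n + 1))⁻¹ = _
    simp only [θ, T, pow_succ]
    group
  have hθ0 : ∀ k, θ 0 k = 1 := fun k => by simp [θ]
  have hθT : ∀ n j, n ≤ j → j < p → ∀ k ∈ K, ∀ l ∈ K, Commute (θ n k) (T j l) := by
    intro n
    induction n with
    | zero => intro j _ _ k _ l _; rw [hθ0]; exact Commute.one_left _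
    | succ n ih =>
      intro j hnj hj k hk l hl
      rw [hθs]
      exact (ih j (by omega) hj k hk l hl).mul_left (hT n j (by omega) hj l hl k hk).symm
  have hθmul : ∀ n, n ≤ p → ∀ k ∈ K, ∀ l ∈ K, θ n (k * l) = θ n k * θ n l := by
    intro n
    induction n with
    | zero => intro _ k _ l _; simp [hθ0]
    | succ n ih =>
      intro hn k hk l hl
      rw [hθs, hθs, hθs, ih (by omega) k hk l hl,
        show T n (k * l) = T n k * T n l by simp only [T]; group]
      calc θ n k * θ n l * (T n k * T n l) = θ n k * (θ n l * T n k) * T n l := by group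
        _ = θ n k * (T n k * θ n l) * T n l := by
            rw [(hθT n n le_rfl (by omega) l hl k hk).eq]
        _ = θ n k * T n k * (θ n l * T n l) := by group
  have hθK : ∀ n, 1 ≤ n → n ≤ p → ∀ k ∈ K, ∀ l ∈ K,
      θ n k * l * (θ n k)⁻¹ = k * l * k⁻¹ := by
    intro n
    induction n with
    | zero => intro h; omega
    | succ n ih =>
      intro _ hn k hk l hl
      rcases Nat.eq_zero_or_pos n with rfl | hn0
      · simp [θ]
      · have h : Commute (T n k) l := by
          have := hT 0 n hn0 (by omega) k hk l hl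
          simpa [T] using this
        rw [hθs, mul_inv_rev, ← ih hn0 (by omega) k hk l hl]
        calc θ n k * T n k * l * ((T n k)⁻¹ * (θ n k)⁻¹)
            = θ n k * (T n k * l * (T n k)⁻¹) * (θ n k)⁻¹ := by group
          _ = _ := by rw [h.eq, mul_inv_cancel_right]
  have hθp : ∀ k, θ p k = (k * a) ^ p := fun k => by simp [θ, hap]
  have hθa : ∀ k ∈ K, Commute (θ p k) a := by
    intro k hk
    have h1 : Commute (θ p k) (k * a) := hθp k ▸ (Commute.refl (k * a)).pow_left p
    have h2 : Commute (θ p k) k := by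
      have := hθK p (by omega) le_rfl k hk k hk
      rw [mul_inv_cancel_right, mul_inv_eq_iff_eq_mul] at this
      exact this
    have := h2.inv_right.mul_right h1
    rwa [inv_mul_cancel_left] at this
  let F : ↥K →* Γ :=
    { toFun := fun k => θ p k
      map_one' := by simp [θ]
      map_mul' := fun k l => hθmul p le_rfl k k.2 l l.2 }
  let P : Subgroup Γ :=
    ((⨅ v : V, MulAction.stabilizer Γ (a • v - v)).comap F).map K.subtype
  have hP : K ≤ P := by
    refine exists_mem_commutator_ne hK hbK hne _ fun k hk => ?_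
    refine ⟨⟨k * (b * k⁻¹ * b⁻¹), mul_mem hk (hbK _ (inv_mem hk))⟩, ?_, rfl⟩
    show θ p (k * (b * k⁻¹ * b⁻¹)) ∈ ⨅ v : V, MulAction.stabilizer Γ (a • v - v)
    rw [Subgroup.mem_iInf]
    intro v
    rw [MulAction.mem_stabilizer_iff, hθmul p le_rfl k hk _ (hbK _ (inv_mem hk))]
    have e : θ p (b * k⁻¹ * b⁻¹) = b * (θ p k)⁻¹ * b⁻¹ := by
      have h1 : θ p k⁻¹ = (θ p k)⁻¹ := map_inv F ⟨k, hk⟩
      rw [hθp, ← h1, hθp, ← conj_pow]
      congr 1
      simp only [mul_assoc]
      rw [(hab.inv_right).symm.eq]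
    rw [e, mul_smul (θ p k) (b * (θ p k)⁻¹ * b⁻¹), mul_smul (b * (θ p k)⁻¹) b⁻¹,
      mul_smul b (θ p k)⁻¹]
    have hb' : b⁻¹ • (a • v - v) = a • v - v := by rw [inv_smul_eq_iff, hba]
    have hi : (θ p k)⁻¹ • (a • v - v) = a • ((θ p k)⁻¹ • v) - (θ p k)⁻¹ • v := by
      rw [smul_sub, ← mul_smul, (hθa k hk).inv_left.eq, mul_smul]
    rw [hb', hi, hba, ← hi, smul_inv_smul]
  have hθI : ∀ k ∈ K, ∀ v : V, θ p k • (a • v - v) = a • v - v := by
    intro k hk v
    obtain ⟨⟨g, hg⟩, hgm, hge⟩ := hP hk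
    obtain rfl : g = k := hge
    exact Subgroup.mem_iInf.mp hgm v
  have hpair : ∀ j, 0 < j → j < p → ∀ m ∈ K, ∀ l ∈ K, ∀ u : V,
      T j l • (m • u - u) = m • u - u := by
    intro j hj0 hj m hm l hl u
    let L := K.map (MulAut.conj (a ^ j)).toMonoidHom
    have habj : Commute (a ^ j) b := hab.pow_left j
    have hbj : ∀ x, b * (a ^ j * x * (a ^ j)⁻¹) * b⁻¹ =
        a ^ j * (b * x * b⁻¹) * (a ^ j)⁻¹ := fun x => by
      calc b * (a ^ j * x * (a ^ j)⁻¹) * b⁻¹ = (b * a ^ j) * x * (b * a ^ j)⁻¹ := by group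
        _ = (a ^ j * b) * x * (a ^ j * b)⁻¹ := by rw [habj.eq]
        _ = _ := by group
    refine pair_zero hodd hp hq hK (map_conj_isQuasisimple hK _) ?_ hbK ?_ hne ?_ m hm
      (T j l) ⟨l, hl, rfl⟩ u
    · rintro g hg _ ⟨x, hx, rfl⟩
      exact (hC j hj0 hj x hx g hg).symm
    · rintro _ ⟨x, hx, rfl⟩
      exact ⟨b * x * b⁻¹, hbK x hx, (hbj x).symm⟩
    · intro hall
      refine hne fun x hx => ?_
      have h := hall _ ⟨x, hx, rfl⟩
      have h' : b * (a ^ j * x * (a ^ j)⁻¹) * b⁻¹ = a ^ j * x * (a ^ j)⁻¹ := by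
        rw [mul_inv_eq_iff_eq_mul]; exact h.eq
      rw [hbj, mul_left_inj, mul_right_inj, mul_inv_eq_iff_eq_mul] at h'
      exact h'
  have hv : ∀ (v : V), (∀ j, 0 < j → j < p → ∀ l ∈ K, T j l • v = v) →
      ∀ k ∈ K, ∀ l ∈ K, l • (k • v - v) = k • v - v := by
    intro v hv k hk l hl
    have h1 : ∀ n, n < p → θ (n + 1) k • v = k • v := by
      intro n
      induction n with
      | zero => intro _; simp [θ]
      | succ n ih => intro hn; rw [hθs, mul_smul, hv (n + 1) (by omega) hn k hk, ih (by omega)]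
    have h2 : θ p k • v = k • v := by
      have := h1 (p - 1) (by omega)
      rwa [Nat.sub_add_cancel (by omega)] at this
    have h3 := hθI k hk v
    rw [smul_sub, ← mul_smul, (hθa k hk).eq, mul_smul, h2] at h3
    have h4 : a • (k • v - v) = k • v - v := by
      rw [smul_sub]
      linear_combination (norm := abel) h3
    have h5 : T 1 l • (k • v - v) = k • v - v := by
      have hcm : Commute (T 1 l) k := by
        have := hT 0 1 one_pos (by omega) l hl k hk
        simpa [T] using this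
      rw [smul_sub, ← mul_smul, hcm.eq, mul_smul, hv 1 one_pos (by omega) l hl]
    have h6 : a⁻¹ • (k • v - v) = k • v - v := by rw [inv_smul_eq_iff, h4]
    simp only [T, pow_one, mul_smul, h6] at h5
    calc l • (k • v - v) = a⁻¹ • a • l • (k • v - v) := (inv_smul_smul _ _).symm
      _ = k • v - v := by rw [h5, h6]
  have hperf := Layer.qs_subgroup_perfect hK
  have hfix : ∀ g ∈ K, ∀ u : V, g • u = u := by
    intro g hg u
    refine perfect_fix hperf (fun g hg m hm => ?_) g hg
    exact perfect_fix hperf (fun l hl k hk => hv _ (fun j hj0 hj l' hl' =>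
      hpair j hj0 hj m hm l' hl' u) k hk l hl) g hg
  exact hne fun k hk => by
    rw [show k = 1 from eq_of_smul_eq_smul fun u : V => by rw [one_smul, hfix k hk u]]
    exact Commute.one_right b

end Cfsg.Agent.PGV
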