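import Cfsg.Agent.PGV.Filtration

/-!
# The characteristic two bound in an arbitrary group
-/

set_option autoImplicit false
set_option linter.unusedSectionVars false
set_option maxHeartbeats 1000000

namespace Cfsg.Agent.PGV

open Subgroup

universe u v

variable {Γ : Type v} [Group Γ] [Finite Γ] {V : Type u} [AddCommGroup V] [Finite V]
  [DistribMulAction Γ V] {K B : Subgroup Γ} {a : Γ}

theorem fix_subgroupOf {S H : Subgroup Γ} (h : S ≤ H) : fix V (S.subgroupOf H) = fix V S := by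
  ext x
  exact ⟨fun hx g hg => hx ⟨g, h hg⟩ hg, fun hx g hg => hx g hg⟩

/-- The counting result, with no generation hypothesis. -/
theorem two_count [FaithfulSMul Γ V] (hK : Cfsg.IsQuasisimple K) (haa : a * a = 1) (hC : Com a K)
    (hB : ∀ b ∈ B, ∀ c ∈ B, Commute b c) (haB : ∀ b ∈ B, Commute a b) (hBK : ∀ b ∈ B, Nor b K)
    (hfaith : ∀ b ∈ B, (∀ k ∈ K, Commute b k) → b = 1) (hq : Quad V K B a) :
    4 * Nat.card B * Nat.card (fix V (B ⊔ zpowers a)) ≤ Nat.card V ∧
      Nat.card B * Nat.card (fix V B) ≤ Nat.card V ∧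
      (Nat.card B * Nat.card (fix V B) = Nat.card V → B = ⊥) := by
  let H : Subgroup Γ := closure ((K : Set Γ) ∪ (B : Set Γ) ∪ {a})
  have hKH : K ≤ H := fun x hx => subset_closure (Or.inl (Or.inl hx))
  have hBH : B ≤ H := fun x hx => subset_closure (Or.inl (Or.inr hx))
  have haH : a ∈ H := subset_closure (Or.inr rfl)
  have hc : Conf (K.subgroupOf H) (B.subgroupOf H) (⟨a, haH⟩ : H) := by
    refine ⟨Layer.isQuasisimple_congr (subgroupOfEquivOfLe hKH).symm hK, Subtype.ext haa,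
      fun k hk l hl => Subtype.ext (hC k hk l hl), fun b hb c hc => Subtype.ext (hB b hb c hc),
      fun b hb => Subtype.ext (haB b hb), fun b hb k hk => hBK b hb k hk, ?_⟩
    have := Subgroup.closure_closure_coe_preimage (k := (K : Set Γ) ∪ (B : Set Γ) ∪ {a})
    refine Eq.trans (congrArg Subgroup.closure ?_) this
    ext x
    simp only [Set.mem_union, SetLike.mem_coe, Set.mem_singleton_iff, Set.mem_preimage,
      Subgroup.mem_subgroupOf]
    refine or_congr Iff.rfl ?_
    exact ⟨fun h => congrArg Subtype.val h, fun h => Subtype.ext h⟩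
  have hq' : Quad V (K.subgroupOf H) (B.subgroupOf H) (⟨a, haH⟩ : H) :=
    ⟨hq.two, fun b hb c hc => hq.bb b hb c hc, fun b hb => hq.ba b hb,
      fun k hk => hq.theta k hk⟩
  obtain ⟨N, hN, M, hM, t, m, hn, hp, hk, ht, hA, hB', heq⟩ := filtration hc _ V le_rfl hq'
  haveI : Fact (Nat.Prime 2) := ⟨Nat.prime_two⟩
  have hMK : M ≠ K.subgroupOf H := by
    intro e
    refine qs_no_pexp (p := 2) hK fun k hk => ⟨m, eq_of_smul_eq_smul fun x : V => ?_⟩
    rw [one_smul]
    exact hp ⟨k, hKH hk⟩ (e ▸ hk) x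
  have ht1 : 1 ≤ t := by
    rcases Nat.eq_zero_or_pos t with h | h
    · exact absurd (ht h) hMK
    · exact h
  have hN1 : N = ⊥ := by
    refine (eq_bot_iff_forall _).mpr fun b hb => Subtype.ext (hfaith b (hN hb) ?_)
    by_contra hne
    refine hMK (le_antisymm hM ?_)
    refine exists_mem_commutator_ne hc.qs (hc.nor b (hN hb))
      (fun h => hne fun k hk => congrArg Subtype.val (h ⟨k, hKH hk⟩ hk).eq) M ?_
    exact fun k hk' => hk b hb k hk'
  have hcB : Nat.card (B.subgroupOf H) = Nat.card B :=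
    Nat.card_congr (subgroupOfEquivOfLe hBH).toEquiv
  have hfA : fix V (B.subgroupOf H ⊔ zpowers (⟨a, haH⟩ : H)) = fix V (B ⊔ zpowers a) := by
    ext x
    rw [mem_fix_sup_zpowers, mem_fix_sup_zpowers]
    exact ⟨fun h => ⟨fun b hb => h.1 ⟨b, hBH hb⟩ hb, h.2⟩,
      fun h => ⟨fun b hb => h.1 b hb, h.2⟩⟩
  rw [hN1, Subgroup.card_bot, mul_one, hcB] at hA hB' heq
  rw [hfA] at hA
  rw [fix_subgroupOf hBH] at hB' heq
  refine ⟨le_trans ?_ hA, hB', fun e => ?_⟩
  · have h4 : 4 ≤ 4 ^ t := le_self_pow (by norm_num) (by omega)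
    rw [mul_comm 4]
    exact Nat.mul_le_mul_right _ (Nat.mul_le_mul_left _ h4)
  · have h := (heq e).symm
    rw [Subgroup.subgroupOf_eq_bot, disjoint_iff, inf_eq_left.mpr hBH] at h
    exact h

end Cfsg.Agent.PGV
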