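import Cfsg.Agent.PGV.Replacement
import Cfsg.Agent.PGV.OddCase
import Cfsg.Agent.PGV.TwoCase

/-!
# The P(G,V) theorem

A best offender normalises every quasisimple subgroup whose translates commute with it.
-/

set_option autoImplicit false
set_option linter.unusedSectionVars false
set_option maxHeartbeats 1000000

namespace Cfsg.Agent.PGV

open Subgroup

universe u v

variable {Γ : Type v} [Group Γ] [Finite Γ] {V : Type u} [AddCommGroup V] [Finite V]
  [DistribMulAction Γ V]

theorem card_fix_bot : Nat.card (fix V (⊥ : Subgroup Γ)) = Nat.card V := by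
  have : fix V (⊥ : Subgroup Γ) = ⊤ := by
    ext x
    simp [mem_fix]
  rw [this, AddSubgroup.card_top]

/-- The product of the two translates fixes the displacements of `a`. -/
theorem theta_fix {K : Subgroup Γ} (hK : Cfsg.IsQuasisimple K) {a b : Γ} (hC : Com a K)
    (hθa : ∀ k ∈ K, Commute (k * (a * k * a⁻¹)) a) (hab : Commute a b) (hbK : Nor b K)
    (hne : ¬ ∀ k ∈ K, Commute b k) (hba : ∀ v : V, b • (a • v - v) = a • v - v) :
    ∀ k ∈ K, ∀ v : V, (k * (a * k * a⁻¹)) • (a • v - v) = a • v - v := by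
  let F : ↥K →* Γ :=
    { toFun := fun g => (g : Γ) * (a * g * a⁻¹)
      map_one' := by simp
      map_mul' := fun g l => by
        calc ((g : Γ) * l) * (a * (g * l) * a⁻¹)
            = g * (l * (a * g * a⁻¹)) * (a * l * a⁻¹) := by group
          _ = g * ((a * g * a⁻¹) * l) * (a * l * a⁻¹) := by rw [(hC g g.2 l l.2).eq]
          _ = _ := by group }
  let P : Subgroup Γ :=
    ((⨅ v : V, MulAction.stabilizer Γ (a • v - v)).comap F).map K.subtype
  have hP : K ≤ P := by
    refine exists_mem_commutator_ne hK hbK hne _ fun k hk => ?_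
    refine ⟨⟨k, hk⟩ * ⟨b * k⁻¹ * b⁻¹, hbK _ (inv_mem hk)⟩, ?_, rfl⟩
    rw [SetLike.mem_coe, Subgroup.mem_comap, map_mul, Subgroup.mem_iInf]
    intro v
    rw [MulAction.mem_stabilizer_iff]
    have e : F ⟨b * k⁻¹ * b⁻¹, hbK _ (inv_mem hk)⟩ = b * (F ⟨k, hk⟩)⁻¹ * b⁻¹ := by
      rw [← map_inv]
      show b * k⁻¹ * b⁻¹ * (a * (b * k⁻¹ * b⁻¹) * a⁻¹) = b * (k⁻¹ * (a * k⁻¹ * a⁻¹)) * b⁻¹
      calc b * k⁻¹ * b⁻¹ * (a * (b * k⁻¹ * b⁻¹) * a⁻¹)
          = b * k⁻¹ * (b⁻¹ * (a * b)) * k⁻¹ * (b⁻¹ * a⁻¹) := by group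
        _ = b * k⁻¹ * (b⁻¹ * (b * a)) * k⁻¹ * (a⁻¹ * b⁻¹) := by
            rw [hab.eq, (hab.inv_inv).eq]
        _ = _ := by group
    rw [e, mul_smul, mul_smul, mul_smul]
    have hc : Commute (F ⟨k, hk⟩) a := hθa k hk
    have hb' : b⁻¹ • (a • v - v) = a • v - v := by rw [inv_smul_eq_iff, hba]
    have hi : (F ⟨k, hk⟩)⁻¹ • (a • v - v) = a • ((F ⟨k, hk⟩)⁻¹ • v) - (F ⟨k, hk⟩)⁻¹ • v := by
      rw [smul_sub, ← mul_smul, hc.inv_left.eq, mul_smul]
    rw [hb', hi, hba, ← hi, smul_inv_smul]
  intro k hk v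
  obtain ⟨⟨g, hg⟩, hgm, hge⟩ := hP hk
  obtain rfl : g = k := hge
  exact Subgroup.mem_iInf.mp hgm v

/-- No quadratic best offender faithful on `K` moves it, in characteristic two. -/
theorem two_case_one [FaithfulSMul Γ V] (htwo : ∀ x : V, x + x = 0) {K Q : Subgroup Γ}
    (hK : Cfsg.IsQuasisimple K) (hab : ∀ x ∈ Q, ∀ y ∈ Q, Commute x y)
    (hexp : ∀ x ∈ Q, x * x = 1) (hBest : Best V Q)
    (hquad : ∀ b ∈ Q, ∀ c ∈ Q, ∀ x : V, b • (c • x - x) = c • x - x)
    (halt : ∀ g ∈ Q, Nor g K ∨ Com g K)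
    (hfaith : ∀ b ∈ Q, (∀ k ∈ K, Commute b k) → b = 1) {a : Γ} (ha : a ∈ Q) (hna : ¬ Nor a K) :
    False := by
  classical
  have hCa : Com a K := (halt a ha).resolve_left hna
  let B : Subgroup Γ :=
    { carrier := {x | x ∈ Q ∧ Nor x K}
      one_mem' := ⟨one_mem _, nor_one K⟩
      mul_mem' := fun h1 h2 => ⟨mul_mem h1.1 h2.1, nor_mul h1.2 h2.2⟩
      inv_mem' := fun h => ⟨inv_mem h.1, nor_inv h.2⟩ }
  have hcov : ∀ x ∈ Q, x ∈ B ∨ a * x ∈ B := by
    intro x hx
    by_contra h
    push Not at h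
    have h1 : ¬ Nor x K := fun hn => h.1 ⟨hx, hn⟩
    have h2 : ¬ Nor (a * x) K := fun hn => h.2 ⟨mul_mem ha hx, hn⟩
    exact orbit_false htwo hK (hexp a ha) (hexp x hx) (hab a ha x hx) (fun v => hquad x hx a ha v)
      hCa ((halt x hx).resolve_left h1) ((halt _ (mul_mem ha hx)).resolve_left h2)
  have hQc : Nat.card Q ≤ 2 * Nat.card B := by
    let f : ↥Q → Bool × ↥B := fun x =>
      if h : (x : Γ) ∈ B then (true, ⟨x, h⟩) else (false, ⟨a * x, (hcov x x.2).resolve_left h⟩)
    have hf : Function.Injective f := by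
      intro x y hxy
      simp only [f] at hxy
      split_ifs at hxy with h1 h2 h2
      · exact Subtype.ext (congrArg (fun z => ((z : Bool × ↥B).2 : Γ)) hxy)
      · simp at hxy
      · simp at hxy
      · exact Subtype.ext (mul_left_cancel (congrArg (fun z => ((z : Bool × ↥B).2 : Γ)) hxy))
    refine (Nat.card_le_card_of_injective f hf).trans ?_
    rw [Nat.card_prod, Nat.card_eq_fintype_card (α := Bool)]
    rfl
  have hfix : fix V Q ≤ fix V (B ⊔ zpowers a) :=
    fix_anti (sup_le (fun x hx => hx.1) (zpowers_le.mpr ha))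
  have hfix' : fix V (B ⊔ zpowers a) = fix V Q := by
    refine le_antisymm (fun x hx g hg => ?_) hfix
    obtain ⟨h1, h2⟩ := mem_fix_sup_zpowers.mp hx
    rcases hcov g hg with h | h
    · exact h1 g h
    · have := h1 _ h
      rwa [mul_smul, ← eq_inv_smul_iff, inv_smul_eq_iff.mpr h2.symm] at this
  have hV : Nat.card V ≤ Nat.card Q * Nat.card (fix V Q) := by
    have := hBest ⊥ bot_le
    rwa [Subgroup.card_bot, one_mul, card_fix_bot] at this
  have hai : a⁻¹ = a := inv_eq_of_mul_eq_one_right (hexp a ha)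
  have hθa : ∀ k ∈ K, Commute (k * (a * k * a⁻¹)) a := fun k hk => by
    have : a * (k * (a * k * a⁻¹)) * a⁻¹ = k * (a * k * a⁻¹) := by
      calc a * (k * (a * k * a⁻¹)) * a⁻¹ = (a * k * a⁻¹) * ((a * a) * k * (a * a)⁻¹) := by group
        _ = (a * k * a⁻¹) * k := by simp [hexp a ha]
        _ = _ := (hCa k hk k hk).eq
    exact (mul_inv_eq_iff_eq_mul.mp this).symm
  have hq : Quad V K B a := by
    refine ⟨htwo, fun b hb c hc => hquad b hb.1 c hc.1, fun b hb => hquad b hb.1 a ha, ?_⟩
    by_cases hB1 : B = ⊥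
    · have hi : (fix V Q).index ≤ 2 := by
        have h1 := (fix V Q).card_mul_index
        rw [hB1, Subgroup.card_bot, mul_one] at hQc
        refine Nat.le_of_mul_le_mul_left ?_ (Nat.card_pos (α := fix V Q))
        rw [h1, mul_comm]
        exact hV.trans (Nat.mul_le_mul_right _ hQc)
      intro k hk v
      by_cases hv : a • v = v
      · rw [hv, sub_self, smul_zero]
      obtain ⟨x, hxd⟩ : ∃ x, x = (k * (a * k * a⁻¹)) • v := ⟨_, rfl⟩
      have hx : (k * (a * k * a⁻¹)) • (a • v - v) = a • x - x := by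
        rw [hxd, smul_sub, ← mul_smul _ a, (hθa k hk).eq, mul_smul a]
      rw [hx]
      have hmem : ∀ y : V, y ∈ fix V Q → a • y = y := fun y hy => hy a ha
      have hvn : v ∉ fix V Q := fun h => hv (hmem v h)
      have hxn : x ∉ fix V Q := fun h => by
        have h' := hx
        rw [hmem x h, sub_self, smul_eq_zero_iff_eq, sub_eq_zero] at h'
        exact hv h'
      have hi2 : (fix V Q).index = 2 := by
        have hne : (fix V Q).index ≠ 1 := fun h =>
          hvn (AddSubgroup.index_eq_one.mp h ▸ AddSubgroup.mem_top v)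
        have := (fix V Q).index_ne_zero_of_finite
        omega
      have h2 : x + v ∈ fix V Q :=
        (AddSubgroup.add_mem_iff_of_index_two hi2).mpr (iff_of_false hxn hvn)
      have h3 := hmem _ h2
      rw [smul_add] at h3
      linear_combination (norm := abel) h3 - htwo (a • v - v)
    · obtain ⟨b, hb, hb1⟩ := (Subgroup.ne_bot_iff_exists_ne_one.mp hB1 |>.elim
        fun x hx => ⟨(x : Γ), x.2, fun h => hx (Subtype.ext h)⟩ : ∃ b ∈ B, b ≠ (1 : Γ))
      exact theta_fix hK hCa hθa (hab a ha b hb.1) hb.2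
        (fun h => hb1 (hfaith b hb.1 h)) (fun v => hquad b hb.1 a ha v)
  have h := (two_count (B := B) hK (hexp a ha) hCa (fun x hx y hy => hab x hx.1 y hy.1)
    (fun b hb => hab a ha b hb.1) (fun b hb => hb.2) (fun b hb => hfaith b hb.1) hq).1
  rw [hfix'] at h
  have h5 : 0 < Nat.card B * Nat.card (fix V Q) := Nat.mul_pos Nat.card_pos Nat.card_pos
  have h6 := hV.trans (Nat.mul_le_mul_right _ hQc)
  have := h.trans h6
  rw [mul_assoc, mul_assoc] at this
  omega

end Cfsg.Agent.PGV

namespace Cfsg.Agent.PGV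

open Subgroup

universe u v

variable {Γ : Type v} [Group Γ] [Finite Γ] {V : Type u} [AddCommGroup V] [Finite V]
  [DistribMulAction Γ V]

/-- A best offender faithful on `K` does not move it. -/
theorem faithful_case [FaithfulSMul Γ V] {p : ℕ} [Fact p.Prime] (hp : ∀ x : V, p • x = 0)
    {A K : Subgroup Γ} (hab : ∀ x ∈ A, ∀ y ∈ A, Commute x y) (hexp : ∀ x ∈ A, x ^ p = 1)
    (hBest : Best V A) (hK : Cfsg.IsQuasisimple K) (halt : ∀ g ∈ A, Nor g K ∨ Com g K)
    (hfaith : ∀ b ∈ A, (∀ k ∈ K, Commute b k) → b = 1) : ∀ g ∈ A, Nor g K := by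
  intro g hg
  by_contra hgn
  have hA : A ≠ ⊥ := fun h => by
    rw [h, Subgroup.mem_bot] at hg
    exact hgn (hg ▸ nor_one K)
  obtain ⟨Q, hQA, hQ1, hQB, hQf⟩ := replacement hp hab hexp hA hBest
  have hqd : ∀ b ∈ Q, ∀ c ∈ Q, ∀ x : V, b • (c • x - x) = c • x - x :=
    fun b hb c hc => hQf b hb c (hQA hc)
  have hpp : ∀ {x : Γ}, p = 2 → x ∈ A → x * x = 1 := fun {x} h hx => by
    have := hexp x hx
    rwa [h, pow_two] at this
  have htwo : p = 2 → ∀ x : V, x + x = 0 := fun h x => by
    have := hp x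
    rwa [h, two_nsmul] at this
  by_cases hmov : ∃ a ∈ Q, ¬ Nor a K
  · obtain ⟨a, ha, han⟩ := hmov
    by_cases h2 : p = 2
    · exact two_case_one (htwo h2) hK (fun x hx y hy => hab x (hQA hx) y (hQA hy))
        (fun x hx => hpp h2 (hQA hx)) hQB hqd (fun x hx => halt x (hQA hx))
        (fun b hb => hfaith b (hQA hb)) ha han
    · exact odd_case_one h2 hp hK (hqd a ha a ha) ((halt a (hQA ha)).resolve_left han)
  push Not at hmov
  obtain ⟨b, hb, hb1⟩ : ∃ b ∈ Q, b ≠ (1 : Γ) := by
    obtain ⟨x, hx⟩ := Subgroup.ne_bot_iff_exists_ne_one.mp hQ1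
    exact ⟨x, x.2, fun h => hx (Subtype.ext h)⟩
  have hne : ¬ ∀ k ∈ K, Commute b k := fun h => hb1 (hfaith b (hQA hb) h)
  by_cases h2 : p = 2
  · have hC : Com g K := (halt g hg).resolve_left hgn
    have hgg := hpp h2 hg
    have hθa : ∀ k ∈ K, Commute (k * (g * k * g⁻¹)) g := fun k hk => by
      have : g * (k * (g * k * g⁻¹)) * g⁻¹ = k * (g * k * g⁻¹) := by
        calc g * (k * (g * k * g⁻¹)) * g⁻¹ = (g * k * g⁻¹) * ((g * g) * k * (g * g)⁻¹) := by group
          _ = (g * k * g⁻¹) * k := by simp [hgg]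
          _ = _ := (hC k hk k hk).eq
      exact (mul_inv_eq_iff_eq_mul.mp this).symm
    have hq : Quad V K Q g :=
      ⟨htwo h2, hqd, fun c hc => hQf c hc g hg,
        theta_fix hK hC hθa (hab g hg b (hQA hb)) (hmov b hb) hne (hQf b hb g hg)⟩
    obtain ⟨-, h1, h3⟩ := two_count hK hgg hC (fun x hx y hy => hab x (hQA hx) y (hQA hy))
      (fun c hc => hab g hg c (hQA hc)) hmov (fun c hc => hfaith c (hQA hc)) hq
    have hV := hQB ⊥ bot_le
    rw [Subgroup.card_bot, one_mul, card_fix_bot] at hV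
    exact hQ1 (h3 (le_antisymm h1 hV))
  · refine odd_case_two h2 hp hK (hexp g hg) (hab g hg b (hQA hb)) (hqd b hb b hb) (hQf b hb g hg)
      (hmov b hb) hne fun j hj0 hjp => (halt _ (pow_mem hg j)).resolve_left fun hn => hgn ?_
    have hcop : Nat.Coprime j p :=
      ((Fact.out : p.Prime).coprime_iff_not_dvd.mpr (Nat.not_dvd_of_pos_of_lt hj0 hjp)).symm
    obtain ⟨m, -, hm⟩ := Nat.exists_mul_mod_eq_one_of_coprime hcop (Fact.out : p.Prime).one_lt
    have e : (g ^ j) ^ m = g := by
      rw [← pow_mul, pow_eq_pow_mod (j * m) (hexp g hg), hm, pow_one]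
    exact e ▸ nor_pow hn m

/-- The theorem for subgroups of automorphism groups. -/
theorem pgv : ∀ (n : ℕ) (W : Type u) [AddCommGroup W] [Finite W], Nat.card W ≤ n →
    ∀ (p : ℕ) [Fact p.Prime], (∀ x : W, p • x = 0) →
    ∀ A K : Subgroup (AddMonoid.End W)ˣ, (∀ x ∈ A, ∀ y ∈ A, Commute x y) →
    (∀ x ∈ A, x ^ p = 1) → Best W A → Cfsg.IsQuasisimple K →
    (∀ g ∈ A, Nor g K ∨ Com g K) → ∀ g ∈ A, Nor g K := by
  intro n
  induction n with
  | zero =>
    intro W _ _ hn
    have := Nat.card_pos (α := W)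
    omega
  | succ n ih =>
    intro W _ _ hn p _ hp A K hab hexp hBest hK halt
    haveI : FaithfulSMul (AddMonoid.End W)ˣ W :=
      ⟨fun h => Units.ext (AddMonoidHom.ext h)⟩
    haveI : Finite (AddMonoid.End W) :=
      Finite.of_injective (fun f : AddMonoid.End W => (f : W → W)) DFunLike.coe_injective
    haveI : Finite (AddMonoid.End W)ˣ := Finite.of_injective _ Units.val_injective
    by_cases hfaith : ∀ b ∈ A, (∀ k ∈ K, Commute b k) → b = 1
    · exact faithful_case hp hab hexp hBest hK halt hfaith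
    push Not at hfaith
    obtain ⟨b, hbA, hbK, hb1⟩ := hfaith
    let C : Subgroup (AddMonoid.End W)ˣ := centralizer {b}
    let W' : AddSubgroup W := fix W (zpowers b)
    have hbW : ∀ x ∈ W', b • x = x := fun x hx => hx b (mem_zpowers b)
    have hinv : ∀ g : C, ∀ x ∈ W', g • x ∈ W' := by
      intro g x hx
      show (g : (AddMonoid.End W)ˣ) • x ∈ W'
      change _ ∈ fix W (zpowers b)
      rw [zpowers_eq_closure]
      refine fix_closure fun y hy => ?_
      rw [Set.mem_singleton_iff.mp hy, ← mul_smul,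
        ← mem_centralizer_singleton_iff.mp g.2, mul_smul, hbW x hx]
    letI := subAction W' hinv
    have hsmul : ∀ (g : C) (x : W'), ((g • x : W') : W) = (g : (AddMonoid.End W)ˣ) • (x : W) :=
      fun _ _ => rfl
    let ψ : ↥C →* (AddMonoid.End W')ˣ := (DistribMulAction.toAddMonoidEnd ↥C W').toHomUnits
    have hψ : ∀ (g : C) (x : W'), ψ g • x = g • x := fun _ _ => rfl
    have hAC : A ≤ C := fun x hx => mem_centralizer_singleton_iff.mpr (hab x hx b hbA)
    have hKC : K ≤ C := fun x hx => mem_centralizer_singleton_iff.mpr (hbK x hx).eq.symm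
    let fA : ↥A →* (AddMonoid.End W')ˣ := ψ.comp (inclusion hAC)
    let fK : ↥K →* (AddMonoid.End W')ˣ := ψ.comp (inclusion hKC)
    haveI : Finite (AddMonoid.End W') :=
      Finite.of_injective (fun f : AddMonoid.End W' => (f : W' → W')) DFunLike.coe_injective
    haveI : Finite (AddMonoid.End W')ˣ := Finite.of_injective _ Units.val_injective
    have hW' : Nat.card W' < Nat.card W := by
      have hne : W' ≠ ⊤ := by
        intro h
        refine hb1 (eq_of_smul_eq_smul fun x : W => ?_)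
        rw [one_smul]
        exact hbW x (h ▸ AddSubgroup.mem_top x)
      exact lt_of_le_of_ne (Nat.card_le_card_of_injective _ Subtype.val_injective) fun e =>
        hne (AddSubgroup.eq_top_of_card_eq _ e)
    have hp' : ∀ x : W', p • x = 0 := fun x => Subtype.ext (hp x)
    have hBest' : Best W' fA.range := by
      intro S hS
      have key : ∀ S ≤ fA.range, Nat.card ((S.comap fA).map A.subtype) = Nat.card S * Nat.card fA.ker ∧
          Nat.card (fix W ((S.comap fA).map A.subtype)) = Nat.card (fix W' S) := by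
        intro S hS
        constructor
        · rw [Subgroup.card_map_of_injective A.subtype_injective]
          have hk : fA.ker ≤ S.comap fA := fun x hx => by
            rw [Subgroup.mem_comap, MonoidHom.mem_ker.mp hx]; exact one_mem S
          let q : ↥(S.comap fA) →* (AddMonoid.End W')ˣ := fA.comp (S.comap fA).subtype
          have e := Subgroup.card_eq_card_quotient_mul_card_subgroup q.ker
          rw [Nat.card_congr (QuotientGroup.quotientKerEquivRange q).toEquiv] at e
          have hr : q.range = S := by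
            rw [MonoidHom.range_comp, Subgroup.range_subtype, Subgroup.map_comap_eq,
              inf_eq_right.mpr hS]
          have hkq : q.ker = fA.ker.subgroupOf (S.comap fA) := rfl
          rw [e, hr, hkq, Nat.card_congr (subgroupOfEquivOfLe hk).toEquiv]
        · have hb' : b ∈ (S.comap fA).map A.subtype := by
            refine ⟨⟨b, hbA⟩, ?_, rfl⟩
            have : fA ⟨b, hbA⟩ = 1 := by
              refine Units.ext (AddMonoidHom.ext fun x => Subtype.ext ?_)
              exact hbW x x.2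
            rw [SetLike.mem_coe, Subgroup.mem_comap, this]
            exact one_mem S
          refine Nat.card_congr
            { toFun := fun x => ⟨⟨x, fix_anti (zpowers_le.mpr hb') x.2⟩, fun g hg => ?_⟩
              invFun := fun x => ⟨((x : W') : W), ?_⟩
              left_inv := fun _ => rfl
              right_inv := fun _ => rfl }
          · obtain ⟨y, rfl⟩ := hS hg
            exact Subtype.ext (x.2 y ⟨y, hg, rfl⟩)
          · rintro _ ⟨y, hy, rfl⟩
            exact congrArg Subtype.val (x.2 (fA y) hy)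
      obtain ⟨e1, e2⟩ := key S hS
      obtain ⟨e3, e4⟩ := key fA.range le_rfl
      have hA' : (fA.range.comap fA).map A.subtype = A := by
        rw [MonoidHom.range_eq_map, Subgroup.comap_map_eq, top_sup_eq, ← MonoidHom.range_eq_map,
          Subgroup.range_subtype]
      have h := hBest ((S.comap fA).map A.subtype) (map_subtype_le _)
      rw [hA'] at e3 e4
      rw [e1, e2, e3, e4] at h
      refine Nat.le_of_mul_le_mul_left (?_ : Nat.card fA.ker * _ ≤ Nat.card fA.ker * _) Nat.card_pos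
      calc _ = Nat.card S * Nat.card fA.ker * Nat.card (fix W' S) := by ring
        _ ≤ _ := h
        _ = _ := by ring
    haveI : Nontrivial fK.range := by
      rw [Subgroup.nontrivial_iff_ne_bot]
      intro h
      have h0 : ∀ k ∈ K, ∀ x ∈ W', k • x = x := by
        intro k hk x hx
        have h1 : fK ⟨k, hk⟩ = 1 := by
          have h' : fK ⟨k, hk⟩ ∈ fK.range := ⟨_, rfl⟩
          rwa [h, Subgroup.mem_bot] at h'
        have h2 := congrArg (fun u : (AddMonoid.End W')ˣ => u • (⟨x, hx⟩ : W')) h1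
        simp only [one_smul] at h2
        exact congrArg Subtype.val h2
      have hstep : ∀ x : W, (∀ k ∈ K, k • (b • x - x) = b • x - x) → ∀ k ∈ K, k • x = x := by
        intro x hx
        refine perfect_fix (Layer.qs_subgroup_perfect hK) fun l hl k hk => h0 l hl _ ?_
        change _ ∈ fix W (zpowers b)
        rw [zpowers_eq_closure]
        refine fix_closure fun y hy => ?_
        have h' := hx k hk
        rw [smul_sub, ← mul_smul, ← (hbK k hk).eq, mul_smul] at h'
        rw [Set.mem_singleton_iff.mp hy, smul_sub]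
        linear_combination (norm := abel) h'
      have hall : ∀ i, ∀ x : W, (∀ k ∈ K, k • ((fun v : W => b • v - v)^[i]) x =
          ((fun v : W => b • v - v)^[i]) x) → ∀ k ∈ K, k • x = x := by
        intro i
        induction i with
        | zero => exact fun x hx => hx
        | succ i ihi => exact fun x hx => hstep x (ihi _ hx)
      haveI := Layer.qs_nontrivial hK
      obtain ⟨⟨k, hk⟩, hk1⟩ := exists_ne (1 : ↥K)
      refine hk1 (Subtype.ext (eq_of_smul_eq_smul fun x : W => ?_))
      show k • x = (1 : (AddMonoid.End W)ˣ) • x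
      rw [one_smul]
      refine hall p x (fun l _ => ?_) k hk
      rw [exists_nilp hp (hexp b hbA)]
      exact smul_zero l
    have hK' : Cfsg.IsQuasisimple fK.range :=
      Layer.qs_of_surjective hK fK.rangeRestrict fK.rangeRestrict_surjective
    have hn' : ∀ x : ↥A, Nor (x : (AddMonoid.End W)ˣ) K → Nor (fA x) fK.range := by
      rintro x hx _ ⟨k, rfl⟩
      refine ⟨⟨x * k * (x : (AddMonoid.End W)ˣ)⁻¹, hx k k.2⟩, ?_⟩
      show ψ _ = ψ _ * ψ _ * (ψ _)⁻¹
      rw [← map_inv, ← map_mul, ← map_mul]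
      rfl
    have hc' : ∀ x : ↥A, Com (x : (AddMonoid.End W)ˣ) K → Com (fA x) fK.range := by
      rintro x hx _ ⟨k, rfl⟩ _ ⟨l, rfl⟩
      show Commute (ψ _ * ψ _ * (ψ _)⁻¹) (ψ _)
      rw [← map_inv, ← map_mul, ← map_mul]
      exact Commute.map (Subtype.ext (hx k k.2 l l.2).eq) ψ
    have hIH := ih W' (by omega) p hp' fA.range fK.range
      (by rintro _ ⟨x, rfl⟩ _ ⟨y, rfl⟩; exact Commute.map (Subtype.ext (hab x x.2 y y.2).eq) fA)
      (by
        rintro _ ⟨x, rfl⟩
        rw [← map_pow, show x ^ p = 1 from Subtype.ext (hexp x x.2), map_one])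
      hBest' hK' (by rintro _ ⟨x, rfl⟩; exact (halt x x.2).imp (hn' x) (hc' x))
    intro g hg
    refine (halt g hg).resolve_right fun hc => ?_
    exact nor_com_false hK' (hIH _ ⟨⟨g, hg⟩, rfl⟩) (hc' ⟨g, hg⟩ hc)

end Cfsg.Agent.PGV
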